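/-
Vectors and matrices over two elements packed into natural numbers, for checks in the kernel.
-/
import Cfsg.Agent.Lib.Chev.SparseSound
import Cfsg.Agent.Lib.Chev.Inst

set_option autoImplicit false
set_option maxRecDepth 100000

namespace CfsgLib.E7Sixtyfive

open Cfsg.Lie Matrix
open CfsgLib.Chev (force force_eq allN allN_iff)

/-- The dimension. -/
def dim : ℕ := 133

/-- The bit `i` of `v`. -/
noncomputable def bitB (v i : ℕ) : Bool := Nat.beq (Nat.mod (Nat.shiftRight v i) 2) 1

theorem bitB_eq (v i : ℕ) : bitB v i = v.testBit i := by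
  rw [Bool.eq_iff_iff, bitB, Nat.beq_eq, Nat.testBit_eq_decide_div_mod_eq, decide_eq_true_eq]
  show (v >>> i) % 2 = 1 ↔ _
  rw [Nat.shiftRight_eq_div_pow]

/-- The field `j` of a packed matrix. -/
noncomputable def fld (M j : ℕ) : ℕ :=
  Nat.mod (Nat.shiftRight M (Nat.mul 133 j)) (Nat.pow 2 133)

/-- A packed matrix applied to a packed vector. -/
noncomputable def app (M v : ℕ) : ℕ :=
  Nat.rec 0 (fun j acc => bif bitB v j then Nat.xor (fld M j) acc else acc) 133

/-- The exclusive sum of the entries of a list selected by the bits of `c`. -/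
noncomputable def comb : List ℕ → ℕ → ℕ := fun L =>
  List.rec (fun _ => 0) (fun a _ ih c => bif bitB c 0 then Nat.xor a (ih (Nat.shiftRight c 1))
    else ih (Nat.shiftRight c 1)) L

abbrev Ix : Type := Cfsg.Lie.chevE7.Idx

/-- The code of a basis index. -/
noncomputable def en (x : Ix) : ℕ := CfsgLib.Chev.Pack.enc x

theorem en_inl (i : Fin Cfsg.Lie.chevE7.rank) : en (Sum.inl i) = 126 + i.val := rfl

theorem en_inr (u : Fin Cfsg.Lie.chevE7.nroots) : en (Sum.inr u) = u.val := rfl

theorem en_lt (x : Ix) : en x < 133 := by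
  rcases x with i | u
  · rw [en_inl]; have : i.val < 7 := i.isLt; omega
  · rw [en_inr]; have : u.val < 126 := u.isLt; omega

theorem en_injective : Function.Injective en := CfsgLib.Chev.Pack.enc_injective

theorem exists_en {j : ℕ} (hj : j < 133) : ∃ x : Ix, en x = j := by
  by_cases h : j < 126
  · exact ⟨Sum.inr ⟨j, h⟩, rfl⟩
  · exact ⟨Sum.inl ⟨j - 126, show j - 126 < 7 by omega⟩, by rw [en_inl]; show 126 + (j - 126) = j; omega⟩

/-- The index with a given code. -/
noncomputable def de (j : Fin 133) : Ix := (exists_en j.isLt).choose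

theorem en_de (j : Fin 133) : en (de j) = j.val := (exists_en j.isLt).choose_spec

theorem de_en (x : Ix) : de ⟨en x, en_lt x⟩ = x := en_injective (by rw [en_de])

/-- The coding as an equivalence. -/
noncomputable def enEquiv : Ix ≃ Fin 133 where
  toFun x := ⟨en x, en_lt x⟩
  invFun := de
  left_inv := de_en
  right_inv j := Fin.ext (en_de j)

abbrev Vec : Type := Ix → ZMod 2

/-- The vector of a packed number. -/
noncomputable def ofM (v : ℕ) : Vec := fun x => if v.testBit (en x) then 1 else 0

/-- The matrix of a packed number. -/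
noncomputable def toMat (M : ℕ) : Matrix Ix Ix (ZMod 2) := fun x y => ofM (fld M (en y)) x

theorem ofM_zero : ofM 0 = 0 := by
  funext x; simp [ofM]

theorem ofM_xor (a b : ℕ) : ofM (a ^^^ b) = ofM a + ofM b := by
  funext x
  simp only [ofM, Pi.add_apply, Nat.testBit_xor]
  cases a.testBit (en x) <;> cases b.testBit (en x) <;> simp [CharTwo.add_self_eq_zero]

theorem ofM_cond (c : Bool) (a : ℕ) : ofM (bif c then a else 0) = if c then ofM a else 0 := by
  cases c <;> simp [ofM_zero]

theorem ofM_single {j : ℕ} (x : Ix) (h : en x = j) : ofM (2 ^ j) = Pi.single x 1 := by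
  funext y
  rw [ofM, Nat.testBit_two_pow, ← h, Pi.single_apply]
  by_cases e : y = x
  · simp [e]
  · rw [if_neg e, decide_eq_false (fun h' => e (en_injective h'.symm))]; simp

theorem ofM_inj {a b : ℕ} (ha : a < 2 ^ 133) (hb : b < 2 ^ 133) (h : ofM a = ofM b) : a = b := by
  refine Nat.eq_of_testBit_eq fun i => ?_
  by_cases hi : i < 133
  · obtain ⟨x, rfl⟩ := exists_en hi
    have h1 := congrFun h x
    simp only [ofM] at h1
    cases h2 : a.testBit (en x) <;> cases h3 : b.testBit (en x) <;> simp [h2, h3] at h1 ⊢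
  · have hp : 2 ^ 133 ≤ 2 ^ i := Nat.pow_le_pow_right (by omega) (by omega)
    rw [Nat.testBit_lt_two_pow (lt_of_lt_of_le ha hp), Nat.testBit_lt_two_pow (lt_of_lt_of_le hb hp)]

theorem app_spec (M v : ℕ) : ofM (app M v) = toMat M *ᵥ ofM v := by
  have key : ∀ n : ℕ, ofM (Nat.rec 0 (fun j acc => bif bitB v j then Nat.xor (fld M j) acc else acc) n) =
      ∑ j ∈ Finset.range n, if v.testBit j then ofM (fld M j) else 0 := by
    intro n
    induction n with
    | zero => simp [ofM_zero]
    | succ n ih =>
      rw [Finset.sum_range_succ, ← ih]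
      show ofM (bif bitB v n then fld M n ^^^ _ else _) = _
      rw [bitB_eq]
      cases v.testBit n
      · simp
      · simp only [cond_true, if_true]
        rw [ofM_xor, add_comm]
  show ofM (Nat.rec 0 (fun j acc => bif bitB v j then Nat.xor (fld M j) acc else acc) 133) = _
  rw [key, ← Fin.sum_univ_eq_sum_range (fun j => if v.testBit j then ofM (fld M j) else 0), ← enEquiv.sum_comp]
  funext x
  simp only [Finset.sum_apply, Matrix.mulVec, dotProduct]
  refine Finset.sum_congr rfl fun y _ => ?_
  show (if v.testBit (en y) then ofM (fld M (en y)) else 0) x = _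
  by_cases h : v.testBit (en y) <;> simp [toMat, ofM, h]

theorem toMat_mulVec_single (M : ℕ) (y : Ix) : toMat M *ᵥ Pi.single y 1 = ofM (fld M (en y)) := by
  funext x
  simp [toMat, Matrix.mulVec, dotProduct, Pi.single_apply]

/-- A matrix is determined by the vectors of the basis. -/
theorem ext_single {A B : Matrix Ix Ix (ZMod 2)} (h : ∀ y, A *ᵥ Pi.single y 1 = B *ᵥ Pi.single y 1) : A = B := by
  refine Matrix.ext fun x y => ?_
  have h1 := congrFun (h y) x
  simpa [Matrix.mulVec, dotProduct, Pi.single_apply] using h1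

theorem comb_nil (c : ℕ) : comb [] c = 0 := rfl

theorem comb_cons (a : ℕ) (L : List ℕ) (c : ℕ) :
    comb (a :: L) c = if c.testBit 0 then a ^^^ comb L (c / 2) else comb L (c / 2) := by
  show (bif bitB c 0 then Nat.xor a (comb L (Nat.shiftRight c 1)) else comb L (Nat.shiftRight c 1)) = _
  rw [bitB_eq, show Nat.shiftRight c 1 = c / 2 from Nat.shiftRight_eq_div_pow c 1]
  cases c.testBit 0 <;> rfl

theorem comb_spec : ∀ (L : List ℕ) (c : ℕ),
    ofM (comb L c) = ∑ i : Fin L.length, if c.testBit i then ofM (L[i]) else 0 := by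
  intro L
  induction L with
  | nil => intro c; simp [comb_nil, ofM_zero]
  | cons a L ih =>
    intro c
    have h : ∀ i : ℕ, c.testBit (i + 1) = (c / 2).testBit i := fun i => Nat.testBit_succ c i
    rw [comb_cons]
    refine Eq.trans ?_ (Fin.sum_univ_succ (fun i : Fin (L.length + 1) =>
      if c.testBit i then ofM ((a :: L)[i]) else 0)).symm
    cases h0 : c.testBit 0 <;> simp [h0, h, ofM_xor, ih]

/-- Fields of a product checked against the columns. -/
noncomputable def mulOK (C A B : ℕ) : Bool :=
  allN 133 fun j => Nat.beq (fld C j) (app A (fld B j))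

theorem mulOK_spec {C A B : ℕ} (h : mulOK C A B = true) : toMat C = toMat A * toMat B := by
  refine ext_single fun y => ?_
  rw [← Matrix.mulVec_mulVec, toMat_mulVec_single, toMat_mulVec_single, ← app_spec]
  simp only [mulOK, allN_iff] at h
  rw [Nat.eq_of_beq_eq_true (h (en y) (en_lt y))]

end CfsgLib.E7Sixtyfive
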