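/-
The bracket of the Lie algebra of type E7 over two elements, packed; it is preserved by the group.
-/
import Cfsg.Agent.Lib.E7Sixtyfive.Bits

set_option autoImplicit false
set_option maxRecDepth 100000

namespace CfsgLib.E7Sixtyfive

open Cfsg.Lie Matrix
open CfsgLib.Chev (force force_eq allN allN_iff Pack Alg Sys)

theorem nroots_pos : 0 < Cfsg.Lie.chevE7.nroots := by decide

/-- The tables of type E7. -/
noncomputable def Φ : Sys Cfsg.Lie.chevE7 :=
  CfsgLib.Chev.packE7.toSys Cfsg.Lie.chevE7 nroots_pos CfsgLib.Chev.datumOKE7 CfsgLib.Chev.tabOKE7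
    CfsgLib.Chev.rootsOKE7

/-- The algebra of type E7. -/
noncomputable def Ψ : Alg Cfsg.Lie.chevE7 := CfsgLib.Chev.chevE7.toAlg

theorem Ψ_toSys : Ψ.toSys = Φ := rfl

/-- The adjoint matrix of a basis vector over a ring. -/
noncomputable def adR (R : Type*) [CommRing R] : Ix → Matrix Ix Ix R
  | Sum.inl i => Matrix.diagonal (Sum.elim (fun _ => 0) fun u => (Φ.A i u : R))
  | Sum.inr r => Φ.E R 1 r

theorem adR_map {R S : Type*} [CommRing R] [CommRing S] (f : R →+* S) (a : Ix) :
    (adR R a).map f = adR S a := by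
  rcases a with i | r
  · show (Matrix.diagonal _).map f = Matrix.diagonal _
    rw [Matrix.diagonal_map (map_zero f)]
    congr 1
    funext x
    rcases x with j | u <;> simp
  · exact Φ.E_map f 1 r

theorem adR_rat (a : Ix) : adR ℚ a = Φ.adB a := by
  rcases a with i | r <;> rfl

/-- The matrix respects the bracket. -/
def AutR {R : Type*} [CommRing R] (g : Matrix Ix Ix R) : Prop :=
  ∀ a, (∑ x, g x a • adR R x) * g = g * adR R a

theorem autR_map_eq {R S : Type*} [CommRing R] [CommRing S] (f : R →+* S) (g : Matrix Ix Ix R) (a : Ix) :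
    ((∑ x, g x a • adR R x) * g).map f = (∑ x, (g.map f) x a • adR S x) * g.map f := by
  rw [Matrix.map_mul]
  congr 1
  ext i j
  simp only [Matrix.map_apply, Matrix.sum_apply, Matrix.smul_apply, smul_eq_mul, map_sum, map_mul]
  refine Finset.sum_congr rfl fun x _ => ?_
  rw [← adR_map f x, Matrix.map_apply]

theorem autR_int (r : Fin Cfsg.Lie.chevE7.nroots) : AutR (Φ.X ℤ r 1) := by
  intro a
  refine Matrix.map_injective (f := Int.castRingHom ℚ) Int.cast_injective ?_
  show ((∑ x, Φ.X ℤ r 1 x a • adR ℤ x) * Φ.X ℤ r 1).map (Int.castRingHom ℚ) =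
    (Φ.X ℤ r 1 * adR ℤ a).map (Int.castRingHom ℚ)
  rw [autR_map_eq, Matrix.map_mul, adR_map, Φ.X_map, map_one]
  have h := Ψ.X_isAut r (1 : ℚ) (Pi.single a 1)
  rw [Ψ_toSys] at h
  rw [Φ.adv_single, Φ.adv_apply, Matrix.mulVec_single_one] at h
  simpa only [adR_rat, Matrix.col_apply] using h

theorem autR_two (r : Fin Cfsg.Lie.chevE7.nroots) : AutR (Φ.X (ZMod 2) r 1) := by
  intro a
  have h : ((∑ x, Φ.X ℤ r 1 x a • adR ℤ x) * Φ.X ℤ r 1).map (Int.castRingHom (ZMod 2)) =
      (Φ.X ℤ r 1 * adR ℤ a).map (Int.castRingHom (ZMod 2)) := by rw [autR_int r a]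
  rw [autR_map_eq, Matrix.map_mul, adR_map, Φ.X_map, map_one] at h
  exact h

/-- The adjoint matrix of a vector. -/
noncomputable def adV (v : Vec) : Matrix Ix Ix (ZMod 2) := ∑ a, v a • adR (ZMod 2) a

/-- The bracket. -/
noncomputable def B (v w : Vec) : Vec := adV v *ᵥ w

theorem adV_add (v v' : Vec) : adV (v + v') = adV v + adV v' := by
  simp [adV, add_smul, Finset.sum_add_distrib]

theorem adV_zero : adV 0 = 0 := by simp [adV]

theorem adV_single (a : Ix) : adV (Pi.single a 1) = adR (ZMod 2) a := by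
  simp [adV, Pi.single_apply]

theorem B_add_left (v v' w : Vec) : B (v + v') w = B v w + B v' w := by
  simp [B, adV_add, Matrix.add_mulVec]

theorem B_add_right (v w w' : Vec) : B v (w + w') = B v w + B v w' := by
  simp [B, Matrix.mulVec_add]

theorem B_zero_left (w : Vec) : B 0 w = 0 := by simp [B, adV_zero]

theorem B_zero_right (v : Vec) : B v 0 = 0 := by simp [B]

theorem B_smul_left (c : ZMod 2) (v w : Vec) : B (c • v) w = c • B v w := by
  fin_cases c
  · show B ((0 : ZMod 2) • v) w = (0 : ZMod 2) • B v w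
    rw [zero_smul, zero_smul, B_zero_left]
  · show B ((1 : ZMod 2) • v) w = (1 : ZMod 2) • B v w
    rw [one_smul, one_smul]

theorem B_smul_right (c : ZMod 2) (v w : Vec) : B v (c • w) = c • B v w :=
  Matrix.mulVec_smul _ _ _

/-- The bracket is respected. -/
def PresB (g : Matrix Ix Ix (ZMod 2)) : Prop := ∀ v w, B (g *ᵥ v) (g *ᵥ w) = g *ᵥ B v w

theorem presB_of_autR {g : Matrix Ix Ix (ZMod 2)} (h : AutR g) : PresB g := by
  intro v w
  have h1 : adV (g *ᵥ v) * g = g * adV v := by
    have e : adV (g *ᵥ v) = ∑ a, v a • ∑ x, g x a • adR (ZMod 2) x := by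
      simp only [adV, Matrix.mulVec, dotProduct, Finset.sum_smul, Finset.smul_sum, smul_smul]
      rw [Finset.sum_comm]
      simp only [mul_comm]
    rw [e, adV, Finset.sum_mul, Finset.mul_sum]
    refine Finset.sum_congr rfl fun a _ => ?_
    rw [Matrix.smul_mul, h a, Matrix.mul_smul]
  show adV (g *ᵥ v) *ᵥ (g *ᵥ w) = g *ᵥ (adV v *ᵥ w)
  rw [Matrix.mulVec_mulVec, Matrix.mulVec_mulVec, h1]

theorem presB_one : PresB 1 := fun v w => by simp

theorem presB_mul {g h : Matrix Ix Ix (ZMod 2)} (hg : PresB g) (hh : PresB h) : PresB (g * h) := fun v w => by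
  simp only [← Matrix.mulVec_mulVec]
  rw [hg, hh]

theorem group_presB {g : GL Ix (ZMod 2)} (hg : g ∈ Cfsg.Lie.chevE7.group (ZMod 2)) :
    PresB (g : Matrix Ix Ix (ZMod 2)) := by
  rw [Ψ.group_eq] at hg
  induction hg using Subgroup.closure_induction with
  | mem g hg =>
    obtain ⟨r, t, rfl⟩ := hg
    fin_cases t
    · show PresB (Ψ.xg r (0 : ZMod 2) : Matrix Ix Ix (ZMod 2))
      rw [Ψ.xg_zero]
      exact presB_one
    · exact presB_of_autR (autR_two r)
  | one => exact presB_one
  | mul a b _ _ ha hb => exact presB_mul ha hb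
  | inv a _ ha =>
    intro v w
    have h := ha ((↑a⁻¹ : Matrix Ix Ix (ZMod 2)) *ᵥ v) ((↑a⁻¹ : Matrix Ix Ix (ZMod 2)) *ᵥ w)
    rw [Matrix.mulVec_mulVec, Matrix.mulVec_mulVec, Units.mul_inv, Matrix.one_mulVec, Matrix.one_mulVec] at h
    conv_rhs => rw [h, Matrix.mulVec_mulVec, Units.inv_mul, Matrix.one_mulVec]

/-- An integer is odd. -/
noncomputable def oddB (z : ℤ) : Bool := Nat.beq (Nat.mod z.natAbs 2) 1

theorem cast_oddB (z : ℤ) : (z : ZMod 2) = if oddB z then 1 else 0 := by
  have h : ((z.natAbs : ℕ) : ZMod 2) = (z : ZMod 2) := by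
    rcases Int.natAbs_eq z with e | e
    · conv_rhs => rw [e, Int.cast_natCast]
    · conv_rhs => rw [e, Int.cast_neg, Int.cast_natCast, CharTwo.neg_eq]
  rw [← h]
  have hb : oddB z = true ↔ z.natAbs % 2 = 1 := by
    rw [oddB, Nat.beq_eq]; rfl
  rcases Nat.mod_two_eq_zero_or_one z.natAbs with e | e
  · rw [if_neg (by rw [hb]; omega), ← ZMod.natCast_mod, e, Nat.cast_zero]
  · rw [if_pos (hb.2 e), ← ZMod.natCast_mod, e, Nat.cast_one]

/-- A power of two if the integer is odd. -/
noncomputable def bitIf (c : ℤ) (u : ℕ) : ℕ := bif oddB c then Nat.pow 2 u else 0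

theorem bitIf_spec (c : ℤ) {u : ℕ} (x : Ix) (h : en x = u) :
    ofM (bitIf c u) = (c : ZMod 2) • Pi.single x 1 := by
  rw [cast_oddB, bitIf]
  cases oddB c
  · simp [ofM_zero]
  · show ofM (2 ^ u) = _
    rw [ofM_single x h, if_pos rfl, one_smul]

theorem ofM_bitIf_mul (c : ℤ) (u : ℕ) (x : Ix) :
    ofM (bitIf c u) x = if en x = u then (c : ZMod 2) else 0 := by
  rw [cast_oddB, bitIf]
  cases oddB c
  · simp [ofM_zero]
  · show ofM (2 ^ u) x = _
    by_cases h : en x = u
    · rw [ofM_single x h]; simp [h]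
    · simp [ofM, h, Ne.symm h]

/-- The odd terms of a sparse vector as a mask. -/
noncomputable def mask : List (ℕ × ℤ) → ℕ := fun L =>
  List.rec 0 (fun a _ ih => Nat.xor (bitIf a.2 a.1) ih) L

theorem mask_spec (L : List (ℕ × ℤ)) (x : Ix) :
    ofM (mask L) x = ((CfsgLib.Chev.Pack.coef (en x) L : ℤ) : ZMod 2) := by
  induction L with
  | nil => simp [mask, CfsgLib.Chev.Pack.coef, ofM_zero]
  | cons a L ih =>
    show ofM (bitIf a.2 a.1 ^^^ mask L) x = _
    rw [ofM_xor, Pi.add_apply, ih, ofM_bitIf_mul, CfsgLib.Chev.Pack.coef_cons]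
    by_cases h : a.1 = en x
    · simp [h]
    · simp [h, Ne.symm h]

/-- A packed matrix is the root element. -/
noncomputable def xOK (r M : ℕ) : Bool :=
  allN 133 fun b => Nat.beq (fld M b) (mask (CfsgLib.Chev.packE7.colX r 1 b))

theorem xOK_spec (r : Fin Cfsg.Lie.chevE7.nroots) {M : ℕ} (h : xOK r.val M = true) :
    toMat M = Φ.X (ZMod 2) r 1 := by
  simp only [xOK, allN_iff] at h
  ext x y
  show ofM (fld M (en y)) x = _
  rw [Nat.eq_of_beq_eq_true (h (en y) (en_lt y)), mask_spec]
  have h1 := CfsgLib.Chev.packE7.coef_colX (hn := nroots_pos) (hd := CfsgLib.Chev.datumOKE7)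
    (ht := CfsgLib.Chev.tabOKE7) (hr := CfsgLib.Chev.rootsOKE7) r 1 x y
  rw [show CfsgLib.Chev.Pack.coef (en x) (CfsgLib.Chev.packE7.colX r.val 1 (en y)) = Φ.X ℤ r 1 x y from h1]
  have h2 := Φ.X_map (Int.castRingHom (ZMod 2)) r (1 : ℤ)
  rw [map_one] at h2
  rw [← h2]
  rfl

/-- The column of the adjoint matrix of a basis vector. -/
noncomputable def adc (a b : ℕ) : ℕ :=
  bif Nat.ble 126 a then
    (bif Nat.ble 126 b then 0 else bitIf (CfsgLib.Chev.packE7.A (Nat.sub a 126) b) b)
  else bif Nat.ble 126 b then bitIf (CfsgLib.Chev.packE7.A (Nat.sub b 126) a) a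
  else bif Nat.beq b a then 0
  else bif Nat.beq b (CfsgLib.Chev.packE7.rev a) then
    mask (Nat.rec [] (fun i acc => (Nat.add CfsgLib.Chev.packE7.n i, CfsgLib.Chev.packE7.C a i * 1) :: acc)
      CfsgLib.Chev.packE7.l)
  else bitIf (CfsgLib.Chev.packE7.N a b) (CfsgLib.Chev.packE7.S a b)

theorem ble_inl (i : Fin Cfsg.Lie.chevE7.rank) : Nat.ble 126 (en (Sum.inl i)) = true :=
  Nat.ble_eq_true_of_le (by rw [en_inl]; omega)

theorem ble_inr (u : Fin Cfsg.Lie.chevE7.nroots) : Nat.ble 126 (en (Sum.inr u)) = false := by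
  have : u.val < 126 := u.isLt
  rw [Bool.eq_false_iff, ne_eq, Nat.ble_eq, en_inr]; omega

theorem sub_inl (i : Fin Cfsg.Lie.chevE7.rank) : Nat.sub (en (Sum.inl i)) 126 = i.val := by
  show en (Sum.inl i) - 126 = _
  rw [en_inl]; omega

theorem adc_spec (a y : Ix) : ofM (adc (en a) (en y)) = adR (ZMod 2) a *ᵥ Pi.single y 1 := by
  rcases a with i | r
  · rw [show adR (ZMod 2) (Sum.inl i) = Matrix.diagonal (Sum.elim (fun _ => 0) fun u => (Φ.A i u : ZMod 2))
      from rfl, Matrix.diagonal_mulVec_single, adc, ble_inl, cond_true, sub_inl]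
    rcases y with j | u
    · rw [ble_inl, cond_true]; simp [ofM_zero]
    · rw [ble_inr, cond_false, bitIf_spec _ (Sum.inr u) rfl, ← Pi.single_smul']
      simp only [Sum.elim_inr, smul_eq_mul]
      rfl
  · rw [show adR (ZMod 2) (Sum.inr r) = Φ.E (ZMod 2) 1 r from rfl, adc, ble_inr, cond_false]
    rcases y with j | s
    · rw [ble_inl, cond_true, sub_inl, bitIf_spec _ (Sum.inr r) rfl, Φ.E_col_inl _ one_ne_zero, if_pos rfl,
        CharTwo.neg_eq]
      rfl
    · rw [ble_inr, cond_false]
      by_cases hsr : s = r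
      · subst hsr
        rw [show Nat.beq (en (Sum.inr s)) (en (Sum.inr s)) = true from Nat.beq_refl _, cond_true,
          Φ.E_col_self _ one_ne_zero, ofM_zero]
      · have hb : Nat.beq (en (Sum.inr s)) (en (Sum.inr r)) = false := by
          rw [Bool.eq_false_iff]; exact fun e => hsr (Fin.ext (Nat.eq_of_beq_eq_true e))
        rw [hb, cond_false]
        have hn' : Cfsg.Lie.chevE7.nroots = CfsgLib.Chev.packE7.n := rfl
        by_cases hsn : s = r.rev
        · subst hsn
          have hb' : Nat.beq (en (Sum.inr r.rev)) (CfsgLib.Chev.packE7.rev (en (Sum.inr r))) = true := by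
            rw [en_inr, en_inr, CfsgLib.Chev.packE7.rev_eq hn']; exact Nat.beq_refl _
          rw [hb', cond_true, Φ.E_col_neg _ one_ne_zero, if_pos rfl, if_neg (by norm_num), add_zero]
          funext x
          rw [mask_spec, Finset.sum_apply]
          rw [show CfsgLib.Chev.Pack.coef (en x) _ = _ from
            CfsgLib.Chev.packE7.coef_hList (D := Cfsg.Lie.chevE7) (hd := CfsgLib.Chev.datumOKE7) (en (Sum.inr r)) 1 x]
          rcases x with k | u
          · simp only [Sum.elim_inl, mul_one, Pi.smul_apply, Pi.single_apply, smul_eq_mul, mul_ite, mul_zero,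
              Sum.inl.injEq, Finset.sum_ite_eq, Finset.mem_univ, if_true]
            rfl
          · simp
        · have hb' : Nat.beq (en (Sum.inr s)) (CfsgLib.Chev.packE7.rev (en (Sum.inr r))) = false := by
            rw [en_inr, en_inr, CfsgLib.Chev.packE7.rev_eq hn', Bool.eq_false_iff]
            exact fun e => hsn (Fin.ext (Nat.eq_of_beq_eq_true e))
          rw [hb', cond_false, Φ.E_col _ 1 hsr hsn, Φ.ch_one_snd, Φ.ch_one_fst]
          by_cases hN : CfsgLib.Chev.packE7.N r.val s.val = 0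
          · have hN' : Φ.N r s = 0 := hN
            rw [hN', en_inr, en_inr, hN]
            have : oddB 0 = false := rfl
            simp [bitIf, this, ofM_zero]
          · have hS : (Φ.S r s).val = CfsgLib.Chev.packE7.S r.val s.val :=
              (CfsgLib.Chev.packE7.S_val (hd := CfsgLib.Chev.datumOKE7) (ht := CfsgLib.Chev.tabOKE7) hN)
            rw [bitIf_spec _ (Sum.inr (Φ.S r s)) (by rw [en_inr, hS, en_inr, en_inr])]
            rfl

/-- The list consists of the adjoint matrices from the index `k` on. -/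
noncomputable def adOK : List ℕ → ℕ → Bool := fun L =>
  List.rec (fun _ => true) (fun M _ ih k => force M fun M' => force k fun k' =>
    allN 133 (fun b => Nat.beq (fld M' b) (adc k' b)) && ih (Nat.succ k')) L

theorem adOK_spec : ∀ {L : List ℕ} {k : ℕ}, adOK L k = true → ∀ (i : Fin L.length) (a : Ix),
    en a = k + i.val → toMat L[i] = adR (ZMod 2) a := by
  intro L
  induction L with
  | nil => intro k _ i; exact i.elim0
  | cons M L ih =>
    intro k h i a ha
    change (force M fun M' => force k fun k' =>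
      allN 133 (fun b => Nat.beq (fld M' b) (adc k' b)) && adOK L (Nat.succ k')) = true at h
    rw [force_eq, force_eq, Bool.and_eq_true, allN_iff] at h
    refine Fin.cases (motive := fun i => en a = k + i.val → toMat (M :: L)[i] = adR (ZMod 2) a) ?_ ?_ i ha
    · intro ha
      refine ext_single fun y => ?_
      rw [← adc_spec, toMat_mulVec_single]
      show ofM (fld M (en y)) = _
      rw [Nat.eq_of_beq_eq_true (h.1 (en y) (en_lt y)), ha]
      rfl
    · intro j ha
      exact ih h.2 j a (by rw [ha]; simp [Nat.succ_eq_add_one]; omega)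

end CfsgLib.E7Sixtyfive
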