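/-
The bracket computed from the packed adjoint matrices.
-/
import Cfsg.Agent.Lib.E7Sixtyfive.Lie
import Cfsg.Agent.Lib.E7Sixtyfive.DataAd

set_option autoImplicit false
set_option maxRecDepth 100000

namespace CfsgLib.E7Sixtyfive

open Cfsg.Lie Matrix
open CfsgLib.Chev (force force_eq allN allN_iff)

theorem fld_eq (M j : ℕ) : fld M j = M / 2 ^ (133 * j) % 2 ^ 133 := by
  show (M >>> (133 * j)) % 2 ^ 133 = _
  rw [Nat.shiftRight_eq_div_pow]

theorem fld_lt (M j : ℕ) : fld M j < 2 ^ 133 := by
  rw [fld_eq]; exact Nat.mod_lt _ (Nat.pos_of_ne_zero (by simp))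

theorem fld_xor (A A' j : ℕ) : fld (A ^^^ A') j = fld A j ^^^ fld A' j := by
  refine Nat.eq_of_testBit_eq fun i => ?_
  simp only [fld_eq, Nat.testBit_xor, Nat.testBit_mod_two_pow, Nat.testBit_div_two_pow]
  by_cases h : i < 133 <;> simp [h]

theorem fld_zero (j : ℕ) : fld 0 j = 0 := by simp [fld_eq]

theorem toMat_xor (A A' : ℕ) : toMat (A ^^^ A') = toMat A + toMat A' := by
  ext x y
  show ofM (fld (A ^^^ A') (en y)) x = ofM (fld A (en y)) x + ofM (fld A' (en y)) x
  rw [fld_xor, ofM_xor]
  rfl

theorem toMat_zero : toMat 0 = 0 := by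
  ext x y
  show ofM (fld 0 (en y)) x = 0
  rw [fld_zero, ofM_zero]
  rfl

theorem toMat_comb : ∀ (L : List ℕ) (c : ℕ),
    toMat (comb L c) = ∑ i : Fin L.length, if c.testBit i then toMat L[i] else 0 := by
  intro L
  induction L with
  | nil => intro c; simp [comb_nil, toMat_zero]
  | cons a L ih =>
    intro c
    have h : ∀ i : ℕ, c.testBit (i + 1) = (c / 2).testBit i := fun i => Nat.testBit_succ c i
    rw [comb_cons]
    refine Eq.trans ?_ (Fin.sum_univ_succ (fun i : Fin (L.length + 1) =>
      if c.testBit i then toMat ((a :: L)[i]) else 0)).symm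
    cases h0 : c.testBit 0 <;> simp [h0, h, toMat_xor, ih]

theorem toMat_comb_ad {L : List ℕ} (hL : L.length = 133) (h : adOK L 0 = true) (v : ℕ) :
    toMat (comb L v) = adV (ofM v) := by
  rw [toMat_comb, adV]
  refine (Fintype.sum_equiv (enEquiv.trans (finCongr hL.symm)) _ _ fun a => ?_).symm
  rw [adOK_spec h (enEquiv.trans (finCongr hL.symm) a) a (by simp [enEquiv])]
  show ofM v a • _ = if v.testBit (en a) then _ else _
  rw [ofM]
  split <;> simp

theorem app_lt (M v : ℕ) : app M v < 2 ^ 133 := by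
  have key : ∀ n : ℕ, (Nat.rec 0 (fun j acc => bif bitB v j then Nat.xor (fld M j) acc else acc) n : ℕ) < 2 ^ 133 := by
    intro n
    induction n with
    | zero => exact Nat.pos_of_ne_zero (by simp)
    | succ n ih =>
      show (bif bitB v n then Nat.xor (fld M n) _ else _) < _
      cases bitB v n
      · exact ih
      · exact Nat.xor_lt_two_pow (fld_lt _ _) ih
  exact key 133

/-- The bracket of packed vectors. -/
noncomputable def br (v w : ℕ) : ℕ := force (comb BIG v) fun M => app M w

theorem big_ok : adOK BIG 0 = true := by decide +kernel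

theorem big_len : BIG.length = 133 := by decide +kernel

theorem br_spec (v w : ℕ) : ofM (br v w) = B (ofM v) (ofM w) := by
  rw [br, force_eq, app_spec, toMat_comb_ad big_len big_ok]
  rfl

end CfsgLib.E7Sixtyfive
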