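/-
An element of order 13 of the Chevalley group of type E7 over two elements.
-/
import Cfsg.Agent.Lib.E7Sixtyfive.Lie
import Cfsg.Agent.Lib.E7Sixtyfive.Bracket
import Cfsg.Agent.Lib.E7Sixtyfive.DataX

set_option autoImplicit false
set_option maxRecDepth 100000

namespace CfsgLib.E7Sixtyfive

open Cfsg.Lie Matrix
open CfsgLib.Chev (force force_eq allN allN_iff)

/-- An entry of a list. -/
noncomputable def gx (L : List ℕ) (k : ℕ) : ℕ := L.getD k 0

/-- The matrix of a packed number lies in the group. -/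
def InG (M : ℕ) : Prop :=
  ∃ g ∈ Cfsg.Lie.chevE7.group (ZMod 2), ((g : GL Ix (ZMod 2)) : Matrix Ix Ix (ZMod 2)) = toMat M

theorem inG_root {r M : ℕ} (hr : r < 126) (h : xOK r M = true) : InG M :=
  ⟨Ψ.xg ⟨r, hr⟩ 1, Ψ.xg_mem_group _ _, (xOK_spec ⟨r, hr⟩ h).symm⟩

theorem inG_mul {C A B : ℕ} (h : mulOK C A B = true) (hA : InG A) (hB : InG B) : InG C := by
  obtain ⟨a, ha, ea⟩ := hA
  obtain ⟨b, hb, eb⟩ := hB
  exact ⟨a * b, mul_mem ha hb, by rw [mulOK_spec h, Units.val_mul, ea, eb]⟩

/-- A packed number is the identity matrix. -/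
noncomputable def oneOK (M : ℕ) : Bool := allN 133 fun j => Nat.beq (fld M j) (Nat.pow 2 j)

theorem oneOK_spec {M : ℕ} (h : oneOK M = true) : toMat M = 1 := by
  simp only [oneOK, allN_iff] at h
  refine ext_single fun y => ?_
  rw [toMat_mulVec_single, Nat.eq_of_beq_eq_true (h (en y) (en_lt y)), Matrix.one_mulVec]
  exact ofM_single y rfl

theorem x0_ok : xOK 93 (gx XS 0) = true := by decide +kernel
theorem x1_ok : xOK 20 (gx XS 1) = true := by decide +kernel
theorem x2_ok : xOK 122 (gx XS 2) = true := by decide +kernel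
theorem x3_ok : xOK 38 (gx XS 3) = true := by decide +kernel
theorem x4_ok : xOK 69 (gx XS 4) = true := by decide +kernel
theorem x5_ok : xOK 27 (gx XS 5) = true := by decide +kernel
theorem x6_ok : xOK 73 (gx XS 6) = true := by decide +kernel
theorem x7_ok : xOK 63 (gx XS 7) = true := by decide +kernel

theorem gp_ok : (mulOK (gx GP 0) (gx XS 0) (gx XS 1) && (allN 6 fun i =>
    mulOK (gx GP (Nat.succ i)) (gx GP i) (gx XS (Nat.add i 2)))) = true := by decide +kernel

theorem gw_ok : (mulOK (gx GW 0) (gx GP 6) (gx GP 6) && mulOK (gx GW 1) (gx GW 0) (gx GP 6) &&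
    mulOK (gx GW 2) (gx GW 1) (gx GW 1) && mulOK (gx TP 1) (gx GW 2) (gx GP 6)) = true := by decide +kernel

theorem tp_zero : oneOK (gx TP 0) = true := by decide +kernel

theorem tp_ok : (allN 12 fun k => mulOK (gx TP (Nat.succ k)) (gx TP k) (gx TP 1)) = true := by decide +kernel

theorem tp_last : mulOK (gx TP 0) (gx TP 12) (gx TP 1) = true := by decide +kernel

theorem tp_one_ne : oneOK (gx TP 1) = false := by decide +kernel

theorem inG_T : InG (gx TP 1) := by
  have hx : ∀ i < 8, InG (gx XS i) := by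
    intro i hi
    interval_cases i
    exacts [inG_root (by norm_num) x0_ok, inG_root (by norm_num) x1_ok, inG_root (by norm_num) x2_ok,
      inG_root (by norm_num) x3_ok, inG_root (by norm_num) x4_ok, inG_root (by norm_num) x5_ok,
      inG_root (by norm_num) x6_ok, inG_root (by norm_num) x7_ok]
  have h := gp_ok
  simp only [Bool.and_eq_true, allN_iff] at h
  have hp : ∀ i < 7, InG (gx GP i) := by
    intro i
    induction i with
    | zero => intro _; exact inG_mul h.1 (hx 0 (by norm_num)) (hx 1 (by norm_num))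
    | succ j ih => intro hj; exact inG_mul (h.2 j (by omega)) (ih (by omega)) (hx (j + 2) (by omega))
  have hw := gw_ok
  simp only [Bool.and_eq_true] at hw
  obtain ⟨⟨⟨h2, h3⟩, h6⟩, h7⟩ := hw
  have g := hp 6 (by norm_num)
  exact inG_mul h7 (inG_mul h6 (inG_mul h3 (inG_mul h2 g g) g) (inG_mul h3 (inG_mul h2 g g) g)) g

/-- The element of order 13. -/
noncomputable def T : Matrix Ix Ix (ZMod 2) := toMat (gx TP 1)

theorem T_pow (k : ℕ) (hk : k ≤ 12) : toMat (gx TP k) = T ^ k := by
  have h := tp_ok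
  simp only [allN_iff] at h
  induction k with
  | zero => rw [pow_zero, oneOK_spec tp_zero]
  | succ j ih =>
    rw [mulOK_spec (h j (by omega)), ih (by omega), pow_succ]
    rfl

theorem T_pow_thirteen : T ^ 13 = 1 := by
  rw [pow_succ, ← T_pow 12 le_rfl, ← oneOK_spec tp_zero, mulOK_spec tp_last]
  rfl

theorem T_ne_one : T ≠ 1 := by
  intro h
  have h1 : oneOK (gx TP 1) = true := by
    simp only [oneOK, allN_iff]
    intro j hj
    obtain ⟨y, rfl⟩ := exists_en hj
    have e := toMat_mulVec_single (gx TP 1) y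
    rw [show toMat (gx TP 1) = (1 : Matrix Ix Ix (ZMod 2)) from h, Matrix.one_mulVec, ← ofM_single y rfl] at e
    rw [← ofM_inj (Nat.pow_lt_pow_right (by norm_num) (en_lt y)) (fld_lt _ _) e]
    exact Nat.beq_refl _
  rw [tp_one_ne] at h1
  exact Bool.false_ne_true h1

theorem presB_T : PresB T := by
  obtain ⟨g, hg, e⟩ := inG_T
  have h := group_presB hg
  rwa [e] at h

theorem tf_ok : Nat.beq TF (Nat.xor (Nat.xor (Nat.xor (Nat.xor (gx TP 0) (gx TP 2)) (gx TP 3)) (gx TP 10))
    (gx TP 11)) = true := by decide +kernel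

theorem toMat_TF : toMat TF = 1 + T ^ 2 + T ^ 3 + T ^ 10 + T ^ 11 := by
  rw [Nat.eq_of_beq_eq_true tf_ok, ← T_pow 2 (by norm_num), ← T_pow 3 (by norm_num), ← T_pow 10 (by norm_num),
    ← T_pow 11 (by norm_num), ← oneOK_spec tp_zero]
  show toMat (gx TP 0 ^^^ gx TP 2 ^^^ gx TP 3 ^^^ gx TP 10 ^^^ gx TP 11) = _
  simp only [toMat_xor]

theorem tpi_ok : Nat.beq TPI (Nat.rec 0 (fun k acc => Nat.xor acc (gx TP k)) 13) = true := by decide +kernel

theorem toMat_TPI : toMat TPI = ∑ k ∈ Finset.range 13, T ^ k := by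
  have key : ∀ n ≤ 13, toMat (Nat.rec 0 (fun k acc => Nat.xor acc (gx TP k)) n) =
      ∑ k ∈ Finset.range n, T ^ k := by
    intro n
    induction n with
    | zero => intro _; simpa using toMat_zero
    | succ n ih =>
      intro hn
      rw [Finset.sum_range_succ, ← ih (by omega), ← T_pow n (by omega)]
      exact toMat_xor _ _
  rw [Nat.eq_of_beq_eq_true tpi_ok, key 13 le_rfl]

end CfsgLib.E7Sixtyfive
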