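/-
The fixed space of the element of order 13 and its bracket.
-/
import Cfsg.Agent.Lib.E7Sixtyfive.Elem
import Cfsg.Agent.Lib.E7Sixtyfive.DataL

set_option autoImplicit false
set_option maxRecDepth 100000

namespace CfsgLib.E7Sixtyfive

open Cfsg.Lie Matrix
open CfsgLib.Chev (force force_eq allN allN_iff anyN anyN_iff)

/-- The basis of the fixed space. -/
noncomputable def lv (i : ℕ) : Vec := ofM (gx LV i)

/-- The span of the basis vectors selected by a mask. -/
noncomputable def Sp (m : ℕ) : Submodule (ZMod 2) Vec :=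
  Submodule.span (ZMod 2) (lv '' {i | i < 13 ∧ m.testBit i = true})

theorem lv_mem {m i : ℕ} (hi : i < 13) (h : m.testBit i = true) : lv i ∈ Sp m :=
  Submodule.subset_span ⟨i, ⟨hi, h⟩, rfl⟩

theorem sp_mono {m m' : ℕ} (h : ∀ i < 13, m.testBit i = true → m'.testBit i = true) : Sp m ≤ Sp m' :=
  Submodule.span_mono (Set.image_mono fun i hi => ⟨hi.1, h i hi.1 hi.2⟩)

theorem LV_length : LV.length = 13 := by decide +kernel

theorem LV_get (i : Fin LV.length) : ofM LV[i] = lv i.val := by
  rw [lv, gx, List.getD_eq_getElem _ _ i.isLt]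
  rfl

theorem comb_mem {m c : ℕ} (h : ∀ i < 13, c.testBit i = true → m.testBit i = true) :
    ofM (comb LV c) ∈ Sp m := by
  rw [comb_spec]
  refine sum_mem fun i _ => ?_
  have hi : i.val < 13 := by
    have := i.isLt
    have := LV_length
    omega
  cases e : c.testBit i.val
  · simp
  · rw [if_pos rfl, LV_get]
    exact lv_mem hi (h i.val hi e)

theorem comb_xor (L : List ℕ) (c d : ℕ) : ofM (comb L (c ^^^ d)) = ofM (comb L c) + ofM (comb L d) := by
  rw [comb_spec, comb_spec, comb_spec, ← Finset.sum_add_distrib]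
  refine Finset.sum_congr rfl fun i _ => ?_
  rw [Nat.testBit_xor]
  cases c.testBit i.val <;> cases d.testBit i.val <;> simp
  funext x
  exact (CharTwo.add_self_eq_zero _).symm

theorem comb_zero (L : List ℕ) : ofM (comb L 0) = 0 := by
  rw [comb_spec]; simp

theorem gx_length {L : List ℕ} (i : Fin L.length) : gx L i.val = L[i] := by
  rw [gx, List.getD_eq_getElem _ _ i.isLt]; rfl

theorem comb_two_pow (L : List ℕ) {i : ℕ} (hi : i < L.length) : ofM (comb L (2 ^ i)) = ofM (gx L i) := by
  rw [comb_spec, Finset.sum_eq_single ⟨i, hi⟩]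
  · rw [if_pos (Nat.testBit_two_pow_self), ← gx_length ⟨i, hi⟩]
  · intro j _ hj
    rw [Nat.testBit_two_pow, if_neg]
    simpa using fun e : i = j.val => hj (Fin.ext e.symm)
  · intro h; exact absurd (Finset.mem_univ _) h

theorem exists_comb {m : ℕ} {v : Vec} (hv : v ∈ Sp m) :
    ∃ c, c < 2 ^ 13 ∧ (∀ i, c.testBit i = true → m.testBit i = true) ∧ v = ofM (comb LV c) := by
  induction hv using Submodule.span_induction with
  | mem x hx =>
    obtain ⟨i, ⟨hi, hm⟩, rfl⟩ := hx
    refine ⟨2 ^ i, Nat.pow_lt_pow_right (by norm_num) hi, fun j hj => ?_, ?_⟩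
    · rw [Nat.testBit_two_pow, decide_eq_true_eq] at hj
      rwa [← hj]
    · rw [comb_two_pow LV (by rw [LV_length]; exact hi)]
      rfl
  | zero => exact ⟨0, by norm_num, fun i hi => by simp at hi, (comb_zero _).symm⟩
  | add x y _ _ hx hy =>
    obtain ⟨c, hc, hcm, rfl⟩ := hx
    obtain ⟨d, hd, hdm, rfl⟩ := hy
    refine ⟨c ^^^ d, Nat.xor_lt_two_pow hc hd, fun i hi => ?_, (comb_xor _ c d).symm⟩
    rw [Nat.testBit_xor] at hi
    cases e : c.testBit i
    · rw [e] at hi; exact hdm i (by simpa using hi)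
    · exact hcm i e
  | smul a x _ hx =>
    obtain ⟨c, hc, hcm, rfl⟩ := hx
    obtain rfl | rfl : a = 0 ∨ a = 1 := (by decide : ∀ a : ZMod 2, a = 0 ∨ a = 1) a
    · exact ⟨0, by norm_num, fun i hi => by simp at hi, by rw [zero_smul, comb_zero]⟩
    · exact ⟨c, hc, hcm, one_smul _ _⟩

/-- A packed vector lies in the span selected by the mask. -/
noncomputable def inS (m t : ℕ) : Bool :=
  force t fun t' => force (app LCO t') fun c => Nat.beq (comb LV c) t' && Nat.beq (Nat.land c m) c

theorem inS_spec {m t : ℕ} (h : inS m t = true) : ofM t ∈ Sp m := by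
  simp only [inS, force_eq, Bool.and_eq_true] at h
  rw [← Nat.eq_of_beq_eq_true h.1]
  refine comb_mem fun i _ hi => ?_
  have e := Nat.eq_of_beq_eq_true h.2
  change app LCO t &&& m = app LCO t at e
  rw [← e, Nat.testBit_and, Bool.and_eq_true] at hi
  exact hi.2

theorem B_mem {m n k : ℕ} (h : ∀ i < 13, m.testBit i = true → ∀ j < 13, n.testBit j = true →
      B (lv i) (lv j) ∈ Sp k) {v w : Vec} (hv : v ∈ Sp m) (hw : w ∈ Sp n) : B v w ∈ Sp k := by
  induction hv using Submodule.span_induction with
  | mem x hx =>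
    obtain ⟨i, ⟨hi, him⟩, rfl⟩ := hx
    induction hw using Submodule.span_induction with
    | mem y hy =>
      obtain ⟨j, ⟨hj, hjn⟩, rfl⟩ := hy
      exact h i hi him j hj hjn
    | zero => rw [B_zero_right]; exact zero_mem _
    | add a b _ _ ha hb => rw [B_add_right]; exact add_mem ha hb
    | smul c a _ ha => rw [B_smul_right]; exact Submodule.smul_mem _ _ ha
  | zero => rw [B_zero_left]; exact zero_mem _
  | add a b _ _ ha hb => rw [B_add_left]; exact add_mem ha hb
  | smul c a _ ha => rw [B_smul_left]; exact Submodule.smul_mem _ _ ha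

/-- All brackets of two selected basis vectors lie in the selected span. -/
noncomputable def brOK (m n k : ℕ) : Bool :=
  allN 13 fun i => bif bitB m i then (allN 13 fun j => bif bitB n j then inS k (br (gx LV i) (gx LV j)) else true)
    else true

theorem brOK_spec {m n k : ℕ} (h : brOK m n k = true) {v w : Vec} (hv : v ∈ Sp m) (hw : w ∈ Sp n) :
    B v w ∈ Sp k := by
  refine B_mem (fun i hi him j hj hjn => ?_) hv hw
  simp only [brOK, allN_iff] at h
  have h1 := h i hi
  rw [bitB_eq, him, cond_true, allN_iff] at h1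
  have h2 := h1 j hj
  rw [bitB_eq, hjn, cond_true] at h2
  rw [lv, lv, ← br_spec]
  exact inS_spec h2

theorem ll_D : brOK 8191 8191 0x7e7 = true := by decide +kernel
theorem dd_DD : brOK 0x7e7 0x7e7 7 = true := by decide +kernel
theorem zd_DD : brOK 2047 0x7e7 7 = true := by decide +kernel
theorem ldd_DD : brOK 8191 7 7 = true := by decide +kernel
theorem z_zero : brOK 31 8191 0 = true := by decide +kernel

theorem sp_zero : Sp 0 = ⊥ := by
  rw [Sp, Submodule.span_eq_bot]
  rintro x ⟨i, ⟨_, h⟩, rfl⟩
  simp at h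

/-- Each listed vector is a sum of listed brackets. -/
noncomputable def srcOK : List (ℕ × List (ℕ × ℕ)) → Bool := fun L =>
  List.rec true (fun e _ ih => Nat.beq (gx LV e.1)
    (List.rec 0 (fun p _ acc => Nat.xor (br (gx LV p.1) (gx LV p.2)) acc) e.2) && ih) L

theorem srcOK_spec : ∀ {L : List (ℕ × List (ℕ × ℕ))}, srcOK L = true → ∀ e ∈ L,
    lv e.1 = ((e.2).map fun p => B (lv p.1) (lv p.2)).sum := by
  have key : ∀ l : List (ℕ × ℕ), ofM (List.rec 0 (fun p _ acc => Nat.xor (br (gx LV p.1) (gx LV p.2)) acc) l) =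
      (l.map fun p => B (lv p.1) (lv p.2)).sum := by
    intro l
    induction l with
    | nil => simp [ofM_zero]
    | cons p l ih =>
      rw [List.map_cons, List.sum_cons, ← ih, lv, lv, ← br_spec]
      exact ofM_xor _ _
  intro L
  induction L with
  | nil => intro _ e he; simp at he
  | cons e L ih =>
    intro h e' he'
    change (Nat.beq (gx LV e.1) _ && srcOK L) = true at h
    rw [Bool.and_eq_true] at h
    rcases List.mem_cons.mp he' with rfl | he'
    · rw [lv, Nat.eq_of_beq_eq_true h.1, key]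
    · exact ih h.2 e' he'

theorem T_lv_ok : (allN 13 fun i => Nat.beq (app (gx TP 1) (gx LV i)) (gx LV i)) = true := by decide +kernel

theorem pi_ok : (allN 133 fun j => inS 8191 (fld TPI j)) = true := by decide +kernel

/-- The vector is fixed by the element of order 13. -/
theorem mem_fix {v : Vec} : v ∈ Sp 8191 ↔ T *ᵥ v = v := by
  constructor
  · intro hv
    induction hv using Submodule.span_induction with
    | mem x hx =>
      obtain ⟨i, ⟨hi, _⟩, rfl⟩ := hx
      have h := T_lv_ok
      simp only [allN_iff] at h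
      rw [lv, T, ← app_spec, Nat.eq_of_beq_eq_true (h i hi)]
    | zero => rw [Matrix.mulVec_zero]
    | add a b _ _ ha hb => rw [Matrix.mulVec_add, ha, hb]
    | smul c a _ ha => rw [Matrix.mulVec_smul, ha]
  · intro hv
    have hk : ∀ k : ℕ, T ^ k *ᵥ v = v := by
      intro k
      induction k with
      | zero => simp
      | succ k ih => rw [pow_succ, ← Matrix.mulVec_mulVec, hv, ih]
    have h1 : toMat TPI *ᵥ v = v := by
      rw [toMat_TPI, Matrix.sum_mulVec, Finset.sum_congr rfl (fun k _ => hk k), Finset.sum_const, Finset.card_range]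
      funext x
      rw [Pi.smul_apply, nsmul_eq_mul, show ((13 : ℕ) : ZMod 2) = 1 from rfl, one_mul]
    have h2 : v = ∑ x, v x • (Pi.single x 1 : Vec) := by
      funext y; simp [Finset.sum_apply, Pi.single_apply]
    rw [← h1, h2, Matrix.mulVec_sum]
    refine sum_mem fun x _ => ?_
    rw [Matrix.mulVec_smul, toMat_mulVec_single]
    refine Submodule.smul_mem _ _ ?_
    have h := pi_ok
    simp only [allN_iff] at h
    exact inS_spec (h (en x) (en_lt x))

theorem co_ok : (allN 13 fun i => Nat.beq (app LCO (gx LV i)) (Nat.pow 2 i)) = true := by decide +kernel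

theorem lv_indep : LinearIndependent (ZMod 2) (fun i : Fin 13 => lv i.val) := by
  refine LinearIndependent.of_comp (toMat LCO).mulVecLin ?_
  have e : ((toMat LCO).mulVecLin ∘ fun i : Fin 13 => lv i.val) =
      (fun i : Fin 13 => (Pi.basisFun (ZMod 2) Ix) (de ⟨i.val, by omega⟩)) := by
    funext i
    have h := co_ok
    simp only [allN_iff] at h
    rw [Function.comp_apply, Matrix.mulVecLin_apply, lv, ← app_spec, Nat.eq_of_beq_eq_true (h i.val i.isLt),
      Pi.basisFun_apply]
    exact ofM_single _ (en_de _)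
  rw [e]
  refine (Pi.basisFun (ZMod 2) Ix).linearIndependent.comp _ fun a b h => ?_
  have := congrArg en h
  rw [en_de, en_de] at this
  exact Fin.ext this

theorem finrank_sp (m : ℕ) :
    Module.finrank (ZMod 2) (Sp m) = Fintype.card {i : Fin 13 // m.testBit i.val = true} := by
  have h := finrank_span_eq_card (lv_indep.comp (Subtype.val : {i : Fin 13 // m.testBit i.val = true} → Fin 13)
    Subtype.val_injective)
  have e : lv '' {i | i < 13 ∧ m.testBit i = true} =
      Set.range ((fun i : Fin 13 => lv i.val) ∘ (Subtype.val : {i : Fin 13 // m.testBit i.val = true} → Fin 13)) := by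
    ext x
    constructor
    · rintro ⟨i, ⟨hi, hm⟩, rfl⟩; exact ⟨⟨⟨i, hi⟩, hm⟩, rfl⟩
    · rintro ⟨⟨i, hm⟩, rfl⟩; exact ⟨i.val, ⟨i.isLt, hm⟩, rfl⟩
  rw [← h, Sp, e]

theorem rank_DD : Module.finrank (ZMod 2) (Sp 7) = 3 := by rw [finrank_sp]; decide +kernel
theorem rank_Z : Module.finrank (ZMod 2) (Sp 31) = 5 := by rw [finrank_sp]; decide +kernel
theorem rank_D : Module.finrank (ZMod 2) (Sp 0x7e7) = 9 := by rw [finrank_sp]; decide +kernel
theorem rank_ZD : Module.finrank (ZMod 2) (Sp 2047) = 11 := by rw [finrank_sp]; decide +kernel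
theorem rank_L : Module.finrank (ZMod 2) (Sp 8191) = 13 := by rw [finrank_sp]; decide +kernel

end CfsgLib.E7Sixtyfive
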