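/-
The orbit of the element of order 13 and multiplication of polynomials in it.
-/
import Cfsg.Agent.Lib.E7Sixtyfive.Space

set_option autoImplicit false
set_option maxRecDepth 100000

namespace CfsgLib.E7Sixtyfive

open Cfsg.Lie Matrix
open CfsgLib.Chev (force force_eq allN allN_iff)

attribute [local irreducible] T toMat

/-- Multiplication by the variable modulo `X ^ 13 - 1`. -/
noncomputable def rot (c : ℕ) : ℕ :=
  Nat.xor (Nat.mod (Nat.shiftLeft c 1) 8192) (Nat.shiftRight c 12)

theorem rot_testBit {c : ℕ} (hc : c < 8192) (i : ℕ) :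
    (rot c).testBit i = if i = 0 then c.testBit 12 else if i < 13 then c.testBit (i - 1) else false := by
  have hz : ∀ j, 13 ≤ j → c.testBit j = false := fun j hj =>
    Nat.testBit_lt_two_pow (lt_of_lt_of_le (show c < 2 ^ 13 by omega) (Nat.pow_le_pow_right (by norm_num) hj))
  show ((c <<< 1 % 2 ^ 13) ^^^ (c >>> 12)).testBit i = _
  rw [Nat.testBit_xor, Nat.testBit_mod_two_pow, Nat.testBit_shiftLeft, Nat.testBit_shiftRight]
  rcases Nat.eq_zero_or_pos i with rfl | hi
  · simp
  · rw [if_neg (by omega), hz (12 + i) (by omega), Bool.xor_false]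
    by_cases h : i < 13
    · simp [h, show 1 ≤ i by omega]
    · simp [h]

theorem rot_lt {c : ℕ} (hc : c < 8192) : rot c < 8192 := by
  refine Nat.lt_of_testBit 13 ?_ (by decide) ?_
  · rw [rot_testBit hc]; simp
  · intro j hj
    rw [rot_testBit hc, if_neg (by omega), if_neg (by omega), show (8192:ℕ) = 2 ^ 13 from rfl, Nat.testBit_two_pow, decide_eq_false (by omega)]

/-- The product of polynomials modulo `X ^ 13 - 1`. -/
noncomputable def mulC (c g : ℕ) : ℕ :=
  Nat.rec 0 (fun i acc => force acc fun o => Nat.xor (rot o) (bif bitB g (Nat.sub 12 i) then c else 0)) 13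

/-- The polynomial evaluated at an element of a ring. -/
noncomputable def polyR {R : Type*} [Ring R] (t : R) (h : ℕ) : R :=
  ∑ k ∈ Finset.range 13, if h.testBit k then t ^ k else 0

section generic

variable {R : Type*} [Ring R] {t : R}

theorem commute_polyR {y : R} (hy : Commute y t) (h : ℕ) : Commute y (polyR t h) := by
  refine Commute.sum_right _ _ _ fun k _ => ?_
  split
  · exact hy.pow_right k
  · exact Commute.zero_right _

theorem polyR_xor (h2 : ∀ a : R, a + a = 0) (g h : ℕ) : polyR t (g ^^^ h) = polyR t g + polyR t h := by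
  simp only [polyR, ← Finset.sum_add_distrib, Nat.testBit_xor]
  refine Finset.sum_congr rfl fun k _ => ?_
  cases g.testBit k <;> cases h.testBit k <;> simp [h2]

theorem polyR_rot (ht : t ^ 13 = 1) {c : ℕ} (hc : c < 8192) : polyR t (rot c) = t * polyR t c := by
  simp only [polyR, Finset.mul_sum, mul_ite, mul_zero, ← pow_succ']
  rw [Finset.sum_range_succ', Finset.sum_range_succ (n := 12) (f := fun k => if c.testBit k then t ^ (k + 1) else 0)]
  congr 1
  · refine Finset.sum_congr rfl fun k hk => ?_
    rw [Finset.mem_range] at hk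
    have e : (rot c).testBit (k + 1) = c.testBit k := by
      rw [rot_testBit hc, if_neg (by omega), if_pos (by omega), Nat.add_sub_cancel]
    rw [e]
  · have e : (rot c).testBit 0 = c.testBit 12 := by rw [rot_testBit hc, if_pos rfl]
    rw [e, ht, pow_zero]

theorem polyR_mulC (h2 : ∀ a : R, a + a = 0) (ht : t ^ 13 = 1) {c : ℕ} (hc : c < 8192) (g : ℕ) :
    mulC c g < 8192 ∧ polyR t (mulC c g) = polyR t g * polyR t c := by
  have key : ∀ n ≤ 13, (Nat.rec 0 (fun i acc => force acc fun o => Nat.xor (rot o) (bif bitB g (Nat.sub 12 i) then c else 0)) n : ℕ) < 8192 ∧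
      polyR t (Nat.rec 0 (fun i acc => force acc fun o => Nat.xor (rot o) (bif bitB g (Nat.sub 12 i) then c else 0)) n) =
        (∑ j ∈ Finset.range n, if g.testBit (13 - n + j) then t ^ j else 0) * polyR t c := by
    intro n
    induction n with
    | zero => intro _; exact ⟨by norm_num, by simp [polyR]⟩
    | succ n ih =>
      intro hn
      obtain ⟨h1, ih2⟩ := ih (by omega)
      generalize ho : (Nat.rec 0 (fun i acc => force acc fun o => Nat.xor (rot o) (bif bitB g (Nat.sub 12 i) then c else 0)) n : ℕ) = o at h1 ih2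
      have e : (Nat.rec 0 (fun i acc => force acc fun o => Nat.xor (rot o) (bif bitB g (Nat.sub 12 i) then c else 0)) (n + 1) : ℕ) =
          rot o ^^^ (bif bitB g (12 - n) then c else 0) := by
        show force (Nat.rec 0 _ n) _ = _
        rw [force_eq, ho]
        rfl
      rw [e]
      have hb : (bif bitB g (12 - n) then c else 0) < 8192 := by cases bitB g (12 - n) <;> simp [hc]
      refine ⟨Nat.xor_lt_two_pow (n := 13) (rot_lt h1) hb, ?_⟩
      rw [polyR_xor h2, polyR_rot ht h1, ih2, ← mul_assoc, Finset.sum_range_succ', add_mul]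
      congr 1
      · congr 1
        rw [Finset.mul_sum]
        refine Finset.sum_congr rfl fun j _ => ?_
        rw [show 13 - (n + 1) + (j + 1) = 13 - n + j by omega, mul_ite, mul_zero, ← pow_succ']
      · rw [show 13 - (n + 1) + 0 = 12 - n by omega, bitB_eq]
        cases g.testBit (12 - n) <;> simp [polyR]
  obtain ⟨h1, ih2⟩ := key 13 le_rfl
  refine ⟨h1, ih2.trans ?_⟩
  simp only [Nat.sub_self, zero_add]
  rfl

end generic

/-- The polynomial evaluated at the element of order 13. -/
noncomputable def Mh (h : ℕ) : Matrix Ix Ix (ZMod 2) := polyR T h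

theorem mat_add_self (A : Matrix Ix Ix (ZMod 2)) : A + A = 0 := by
  ext x y; exact CharTwo.add_self_eq_zero _

theorem commute_Mh {Y : Matrix Ix Ix (ZMod 2)} (hY : Y * T = T * Y) (h : ℕ) : Commute Y (Mh h) := by
  unfold Mh
  refine commute_polyR ?_ h
  rw [commute_iff_eq]
  exact hY

theorem Mh_xor (g h : ℕ) : Mh (g ^^^ h) = Mh g + Mh h := polyR_xor mat_add_self g h

theorem mulC_spec {c : ℕ} (hc : c < 8192) (g : ℕ) : mulC c g < 8192 ∧ Mh (mulC c g) = Mh g * Mh c :=
  polyR_mulC mat_add_self T_pow_thirteen hc g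

theorem orb_ok : ((allN 12 fun k => Nat.beq (app (gx TP 1) (gx ORB k)) (gx ORB (Nat.succ k))) &&
    (allN 13 fun k => Nat.blt (gx ORB k) (Nat.pow 2 133))) = true := by decide +kernel

theorem ORB_length : ORB.length = 13 := by decide +kernel

/-- The first vector of the orbit. -/
noncomputable def v0 : Vec := ofM (gx ORB 0)

theorem orb_eq : ∀ k < 13, ofM (gx ORB k) = T ^ k *ᵥ v0 := by
  intro k
  induction k with
  | zero => intro _; rw [pow_zero, Matrix.one_mulVec]; rfl
  | succ j ih =>
    intro hj
    have h := orb_ok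
    simp only [Bool.and_eq_true, allN_iff] at h
    rw [pow_succ', ← Matrix.mulVec_mulVec, ← ih (by omega), T, ← app_spec,
      Nat.eq_of_beq_eq_true (h.1 j (by omega))]

theorem comb_orb (h : ℕ) : ofM (comb ORB h) = Mh h *ᵥ v0 := by
  rw [comb_spec, Mh, polyR, Matrix.sum_mulVec, Finset.sum_range, ← (finCongr ORB_length).sum_comp]
  refine Finset.sum_congr rfl fun i _ => ?_
  have hi : i.val < 13 := by
    have := i.isLt
    have := ORB_length
    omega
  show _ = (if h.testBit i.val then T ^ i.val else 0) *ᵥ v0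
  cases h.testBit i.val
  · simp
  · rw [if_pos rfl, if_pos rfl, ← orb_eq i.val hi, ← gx_length i]

theorem comb_lt {L : List ℕ} {B : ℕ} (hL : ∀ a ∈ L, a < 2 ^ B) (c : ℕ) : comb L c < 2 ^ B := by
  induction L generalizing c with
  | nil => rw [comb_nil]; exact Nat.pos_of_ne_zero (by simp)
  | cons a L ih =>
    rw [comb_cons]
    have h := ih (fun b hb => hL b (List.mem_cons_of_mem _ hb)) (c / 2)
    split
    · exact Nat.xor_lt_two_pow (hL a List.mem_cons_self) h
    · exact h

theorem orb_lt {a : ℕ} (ha : a ∈ ORB) : a < 2 ^ 133 := by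
  have h := orb_ok
  simp only [Bool.and_eq_true, allN_iff, Nat.blt_eq] at h
  obtain ⟨i, hi, rfl⟩ := List.getElem_of_mem ha
  have := gx_length (L := ORB) ⟨i, hi⟩
  have h2 := h.2 i (by have := ORB_length; omega)
  rw [show gx ORB i = ORB[i] from this] at h2
  exact h2

end CfsgLib.E7Sixtyfive
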