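/-
Checks for the commutant of the element of order 13 and its fixed space.
-/
import Cfsg.Agent.Lib.E7Sixtyfive.Orbit

set_option autoImplicit false
set_option maxRecDepth 100000

namespace CfsgLib.E7Sixtyfive

open Cfsg.Lie Matrix
open CfsgLib.Chev (force force_eq allN allN_iff anyN anyN_iff)

/-- The projection to the orbit, on packed vectors. -/
noncomputable def pN (e : ℕ) : ℕ := force e fun e' =>
  force (comb LV 256) fun a => force (comb LV 192) fun b => force (comb LV 5) fun z =>
  force (Nat.xor (app (gx TP 1) e') e') fun t1 => force (br b t1) fun t2 => force (br a t2) fun t3 =>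
    Nat.xor (br z t3) (app TF t3)

theorem p_ok : (allN 133 fun j => force (pN (Nat.pow 2 j)) fun t => force (app OCP t) fun c =>
    Nat.beq (comb ORB c) t && Nat.blt c 4096) = true := by decide +kernel

theorem p_start : Nat.beq (pN (Nat.pow 2 4)) (gx ORB 0) = true := by decide +kernel

/-- The fifth power of a polynomial. -/
noncomputable def fifth (c : ℕ) : ℕ := force c fun c => force (mulC c c) fun c2 => force (mulC c2 c2) fun c4 => mulC c c4

/-- The candidates that survive. -/
noncomputable def isSol (c : ℕ) : Bool :=
  Nat.beq c 1 || Nat.beq c 101 || Nat.beq c 523 || Nat.beq c 2433 || Nat.beq c 3054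

/-- The fifth powers of the candidates starting at `lo`. -/
noncomputable def solOK (lo : ℕ) : Bool :=
  allN 512 fun i => force (Nat.add lo i) fun c => bif Nat.beq (comb ORB (fifth c)) (gx ORB 0) then isSol c else true

theorem sol0 : solOK 0 = true := by decide +kernel
theorem sol1 : solOK 512 = true := by decide +kernel
theorem sol2 : solOK 1024 = true := by decide +kernel
theorem sol3 : solOK 1536 = true := by decide +kernel
theorem sol4 : solOK 2048 = true := by decide +kernel
theorem sol5 : solOK 2560 = true := by decide +kernel
theorem sol6 : solOK 3072 = true := by decide +kernel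
theorem sol7 : solOK 3584 = true := by decide +kernel

/-- The witness of a candidate. -/
noncomputable def wit (c : ℕ) : ℕ := force c fun c =>
  force (br (gx LV 5) (comb ORB (mulC c (Nat.pow 2 9)))) fun u0 =>
  force (br (gx LV 7) (comb ORB (mulC c (Nat.pow 2 3)))) fun u1 =>
  force (br (gx LV 0) (comb ORB (mulC c (Nat.pow 2 0)))) fun u2 =>
    app TPI (br (br u0 u1) u2)

theorem wit_ok : (force (wit 1) fun l => !(Nat.beq (wit 101) l) && !(Nat.beq (wit 523) l) &&
    !(Nat.beq (wit 2433) l) && !(Nat.beq (wit 3054) l)) = true := by decide +kernel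

theorem one_mulC : (allN 12 fun i => Nat.beq (mulC 1 (Nat.pow 2 i)) (Nat.pow 2 i)) = true := by decide +kernel

/-- The generators of the closure. -/
noncomputable def gen (g : ℕ) : ℕ := bif Nat.blt g 13 then gx LV g else gx ORB (Nat.sub g 13)

theorem vs_ok : ((allN 12 fun i => Nat.beq (gx VS i) (gx ORB i)) && (allN 121 fun n =>
    Nat.blt (gx DP n) (Nat.add 12 n) && Nat.blt (gx DG n) 25 &&
      Nat.beq (gx VS (Nat.add 12 n)) (br (gen (gx DG n)) (gx VS (gx DP n))))) = true := by decide +kernel

theorem inv_ok : (allN 133 fun i => Nat.beq (comb VS (gx INV i)) (Nat.pow 2 i)) = true := by decide +kernel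

theorem VS_length : VS.length = 133 := by decide +kernel

end CfsgLib.E7Sixtyfive
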