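/-
An automorphism of order dividing five commuting with the element of order 13 is trivial on its fixed space.
-/
import Cfsg.Agent.Lib.E7Sixtyfive.Space

set_option autoImplicit false
set_option maxRecDepth 100000

namespace CfsgLib.E7Sixtyfive

open Cfsg.Lie Matrix
open CfsgLib.Chev (force force_eq allN allN_iff anyN anyN_iff)

/-- The hypotheses on an automorphism of order dividing five. -/
structure Five (Y : Matrix Ix Ix (ZMod 2)) : Prop where
  comm : Y * T = T * Y
  pres : PresB Y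
  five : Y ^ 5 = 1

variable {Y : Matrix Ix Ix (ZMod 2)}

/-- The fixed vectors. -/
noncomputable def fixS (Y : Matrix Ix Ix (ZMod 2)) : Submodule (ZMod 2) Vec where
  carrier := {v | Y *ᵥ v = v}
  add_mem' {a b} ha hb := by
    show Y *ᵥ (a + b) = a + b
    rw [Matrix.mulVec_add, ha, hb]
  zero_mem' := Matrix.mulVec_zero _
  smul_mem' c v hv := by
    show Y *ᵥ (c • v) = c • v
    rw [Matrix.mulVec_smul, hv]

theorem mem_fixS {v : Vec} : v ∈ fixS Y ↔ Y *ᵥ v = v := Iff.rfl

/-- The subspace is mapped to itself. -/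
def Stab (Y : Matrix Ix Ix (ZMod 2)) (S : Submodule (ZMod 2) Vec) : Prop := ∀ v ∈ S, Y *ᵥ v ∈ S

theorem stab_pow {S : Submodule (ZMod 2) Vec} (h : Stab Y S) (k : ℕ) : Stab (Y ^ k) S := by
  induction k with
  | zero => intro v hv; simpa using hv
  | succ k ih => intro v hv; rw [pow_succ, ← Matrix.mulVec_mulVec]; exact ih _ (h v hv)

theorem two_pow_mod_five {a b : ℕ} (ha : a ≤ 13) (hb : b ≤ 13) (h : 2 ^ a ≡ 2 ^ b [MOD 5]) : a % 4 = b % 4 := by
  have key : ∀ a : Fin 14, ∀ b : Fin 14, 2 ^ a.val % 5 = 2 ^ b.val % 5 → a.val % 4 = b.val % 4 := by decide +kernel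
  exact key ⟨a, by omega⟩ ⟨b, by omega⟩ h

theorem card_eq_two_pow {V : Type*} [AddCommGroup V] [Module (ZMod 2) V] [Finite V] :
    Nat.card V = 2 ^ Module.finrank (ZMod 2) V := by
  rw [Module.natCard_eq_pow_finrank (K := ZMod 2), Nat.card_zmod]

theorem fix_mod_gen {V : Type*} [AddCommGroup V] [Module (ZMod 2) V] [Finite V] (f : V → V) (hf : f^[5] = id)
    (S F : Submodule (ZMod 2) V) (hS : ∀ v ∈ S, f v ∈ S) (hF : ∀ v, v ∈ F ↔ f v = v)
    (hd : Module.finrank (ZMod 2) S ≤ 13) :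
    Module.finrank (ZMod 2) (S ⊓ F : Submodule (ZMod 2) V) % 4 = Module.finrank (ZMod 2) S % 4 := by
  classical
  have : Fintype V := Fintype.ofFinite V
  have : Fact (Nat.Prime 5) := ⟨by norm_num⟩
  have h5' : ∀ v, f (f (f (f (f v)))) = v := fun v => congrFun hf v
  let σ : Equiv.Perm S :=
    { toFun := fun v => ⟨f v.1, hS _ v.2⟩
      invFun := fun v => ⟨f (f (f (f v.1))), hS _ (hS _ (hS _ (hS _ v.2)))⟩
      left_inv := fun v => Subtype.ext (h5' v.1)
      right_inv := fun v => Subtype.ext (h5' v.1) }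
  have h5 : σ ^ 5 ^ 1 = 1 := by
    refine Equiv.ext fun v => Subtype.ext ?_
    exact h5' v.1
  have h := Equiv.Perm.card_compl_support_modEq h5
  have e : σ.supportᶜ.card = Nat.card (S ⊓ F : Submodule (ZMod 2) V) := by
    rw [← Nat.card_eq_finsetCard]
    refine Nat.card_congr
      { toFun := fun v => ⟨v.1.1, v.1.2, ?_⟩
        invFun := fun v => ⟨⟨v.1, v.2.1⟩, ?_⟩
        left_inv := fun v => rfl
        right_inv := fun v => rfl }
    · have := v.2
      rw [Finset.mem_compl, Equiv.Perm.notMem_support] at this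
      exact (hF _).2 (congrArg Subtype.val this)
    · rw [Finset.mem_compl, Equiv.Perm.notMem_support]
      exact Subtype.ext ((hF _).1 v.2.2)
  rw [e, ← Nat.card_eq_fintype_card, card_eq_two_pow, card_eq_two_pow] at h
  exact two_pow_mod_five (le_trans (Submodule.finrank_mono inf_le_left) hd) hd h

theorem iterate_five (hY : Five Y) : (fun v : Vec => Y *ᵥ v)^[5] = id := by
  funext v
  show Y *ᵥ (Y *ᵥ (Y *ᵥ (Y *ᵥ (Y *ᵥ v)))) = v
  rw [Matrix.mulVec_mulVec, Matrix.mulVec_mulVec, Matrix.mulVec_mulVec, Matrix.mulVec_mulVec]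
  have e : Y * (Y * (Y * (Y * Y))) = Y ^ 5 := by
    rw [pow_succ', pow_succ', pow_succ', pow_succ', pow_one]
  simp only [mul_assoc] at e ⊢
  rw [e, hY.five, Matrix.one_mulVec]

theorem sp_le_rank {S : Submodule (ZMod 2) Vec} (hL : S ≤ Sp 8191) : Module.finrank (ZMod 2) S ≤ 13 :=
  le_of_le_of_eq (Submodule.finrank_mono hL) rank_L

theorem fix_mod (hY : Five Y) {S : Submodule (ZMod 2) Vec} (hS : Stab Y S) (hL : S ≤ Sp 8191) :
    Module.finrank (ZMod 2) (S ⊓ fixS Y : Submodule (ZMod 2) Vec) % 4 = Module.finrank (ZMod 2) S % 4 :=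
  fix_mod_gen (V := Vec) (fun v => Y *ᵥ v) (iterate_five hY) S (fixS Y) hS (fun _ => mem_fixS) (sp_le_rank hL)

theorem stab_L (hY : Five Y) : Stab Y (Sp 8191) := by
  intro v hv
  rw [mem_fix] at hv ⊢
  rw [Matrix.mulVec_mulVec, ← hY.comm, ← Matrix.mulVec_mulVec, hv]

/-- The list covers the mask with pairs from the second mask. -/
noncomputable def covOK (k n : ℕ) (L : List (ℕ × List (ℕ × ℕ))) : Bool :=
  (List.range 13).all fun i => !(n.testBit i) || L.any fun e => Nat.beq e.1 i &&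
    e.2.all fun p => Nat.blt p.1 13 && k.testBit p.1 && (Nat.blt p.2 13 && k.testBit p.2)

theorem covOK_spec {k n : ℕ} {L : List (ℕ × List (ℕ × ℕ))} (h : covOK k n L = true) :
    ∀ i < 13, n.testBit i = true → ∃ e ∈ L, e.1 = i ∧ ∀ p ∈ e.2,
      (p.1 < 13 ∧ k.testBit p.1 = true) ∧ (p.2 < 13 ∧ k.testBit p.2 = true) := by
  intro i hi hb
  simp only [covOK, List.all_eq_true, List.mem_range, Bool.or_eq_true, Bool.not_eq_true', List.any_eq_true,
    Bool.and_eq_true, Nat.blt_eq] at h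
  rcases h i hi with h' | ⟨e, he, h1, h2⟩
  · rw [hb] at h'; exact absurd h' (by decide)
  · exact ⟨e, he, Nat.eq_of_beq_eq_true h1, fun p hp => h2 p hp⟩

theorem D_src : srcOK [(0, [(5, 6)]), (1, [(5, 7)]), (2, [(5, 8)]), (5, [(5, 11), (5, 12), (6, 11), (6, 12), (7, 12)]),
    (6, [(5, 11), (5, 12), (6, 11), (7, 11)]), (7, [(5, 12), (6, 11), (7, 12)]),
    (8, [(6, 11), (6, 12), (7, 11), (7, 12)]), (9, [(5, 11), (7, 11)]),
    (10, [(5, 11), (5, 12), (6, 11), (6, 12), (7, 11), (7, 12)])] = true := by decide +kernel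

theorem stab_of_src (hY : Five Y) {k n : ℕ} (hA : Stab Y (Sp k))
    (hB : ∀ v ∈ Sp k, ∀ w ∈ Sp k, B v w ∈ Sp n) (L : List (ℕ × List (ℕ × ℕ))) (hL : srcOK L = true)
    (hm : ∀ i < 13, n.testBit i = true → ∃ e ∈ L, e.1 = i ∧ ∀ p ∈ e.2,
      (p.1 < 13 ∧ k.testBit p.1 = true) ∧ (p.2 < 13 ∧ k.testBit p.2 = true)) : Stab Y (Sp n) := by
  intro v hv
  induction hv using Submodule.span_induction with
  | mem x hx =>
    obtain ⟨i, ⟨hi, hb⟩, rfl⟩ := hx
    obtain ⟨⟨j, l⟩, he, rfl, hp⟩ := hm i hi hb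
    rw [srcOK_spec hL _ he]
    clear he hb hi
    induction l with
    | nil => simp
    | cons p l ih =>
      rw [List.map_cons, List.sum_cons, Matrix.mulVec_add]
      refine add_mem ?_ (ih fun q hq => hp q (List.mem_cons_of_mem _ hq))
      obtain ⟨⟨h1, h2⟩, h3, h4⟩ := hp p List.mem_cons_self
      rw [← hY.pres]
      exact hB _ (hA _ (lv_mem h1 h2)) _ (hA _ (lv_mem h3 h4))
  | zero => rw [Matrix.mulVec_zero]; exact zero_mem _
  | add a b _ _ ha hb => rw [Matrix.mulVec_add]; exact add_mem ha hb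
  | smul c a _ ha => rw [Matrix.mulVec_smul]; exact Submodule.smul_mem _ _ ha

theorem stab_D (hY : Five Y) : Stab Y (Sp 0x7e7) := by
  refine stab_of_src hY (stab_L hY) (fun v hv w hw => brOK_spec ll_D hv hw) _ D_src (covOK_spec (by decide +kernel))

theorem DD_src : srcOK [(0, [(5, 6)]), (1, [(5, 7)]), (2, [(5, 8)])] = true := by decide +kernel

theorem stab_DD (hY : Five Y) : Stab Y (Sp 7) := by
  refine stab_of_src hY (stab_D hY) (fun v hv w hw => brOK_spec dd_DD hv hw) _ DD_src (covOK_spec (by decide +kernel))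

/-- Nonzero combinations outside the centre do not commute with the fixed space. -/
theorem cen_ok : (allN 256 fun c => Nat.beq c 0 || (force (comb LV (Nat.shiftLeft c 5)) fun v =>
    anyN 13 fun j => !(Nat.beq (br v (gx LV j)) 0))) = true := by decide +kernel

theorem gx_LV_lt : (allN 13 fun i => Nat.blt (gx LV i) (Nat.pow 2 133)) = true := by decide +kernel

theorem xor_split (c k : ℕ) : c = (c % 2 ^ k) ^^^ ((c >>> k) <<< k) := by
  refine Nat.eq_of_testBit_eq fun i => ?_
  rw [Nat.testBit_xor, Nat.testBit_mod_two_pow, Nat.testBit_shiftLeft, Nat.testBit_shiftRight]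
  by_cases h : i < k
  · simp [h, show ¬ k ≤ i by omega]
  · simp [h, show k ≤ i by omega]

theorem shift_lt {c k m : ℕ} (hc : c < 2 ^ (k + m)) : c >>> k < 2 ^ m := by
  rw [Nat.shiftRight_eq_div_pow]
  exact Nat.div_lt_of_lt_mul (by rwa [← pow_add])

theorem br_ne_zero {v w : ℕ} (h : Nat.beq (br v w) 0 = false) : B (ofM v) (ofM w) ≠ 0 := by
  rw [← br_spec, ← ofM_zero]
  intro e
  have h0 : br v w < 2 ^ 133 := by
    rw [br, force_eq]
    have key : ∀ n : ℕ, (Nat.rec 0 (fun j acc => bif bitB w j then Nat.xor (fld (comb BIG v) j) acc else acc) n : ℕ) < 2 ^ 133 := by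
      intro n
      induction n with
      | zero => exact Nat.pos_of_ne_zero (by simp)
      | succ n ih =>
        show (bif bitB w n then Nat.xor (fld (comb BIG v) n) _ else _) < _
        cases bitB w n
        · exact ih
        · exact Nat.xor_lt_two_pow (fld_lt _ _) ih
    exact key 133
  rw [ofM_inj h0 (Nat.pos_of_ne_zero (by simp)) e] at h
  exact absurd h (by decide)

theorem mem_Z {v : Vec} : v ∈ Sp 31 ↔ v ∈ Sp 8191 ∧ ∀ w ∈ Sp 8191, B v w = 0 := by
  constructor
  · intro hv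
    refine ⟨sp_mono (by decide) hv, fun w hw => ?_⟩
    have h := brOK_spec z_zero hv hw
    rwa [sp_zero, Submodule.mem_bot] at h
  · rintro ⟨hv, hz⟩
    obtain ⟨c, hc, _, rfl⟩ := exists_comb hv
    have hlow : ofM (comb LV (c % 2 ^ 5)) ∈ Sp 31 := by
      refine comb_mem fun i hi hb => ?_
      rw [Nat.testBit_mod_two_pow, Bool.and_eq_true, decide_eq_true_eq] at hb
      have := hb.1
      interval_cases i <;> decide
    have e : ofM (comb LV c) = ofM (comb LV (c % 2 ^ 5)) + ofM (comb LV ((c >>> 5) <<< 5)) := by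
      rw [← comb_xor, ← xor_split]
    rw [e]
    by_cases h0 : c >>> 5 = 0
    · rw [h0, Nat.zero_shiftLeft, comb_zero, add_zero]
      exact hlow
    · exfalso
      have h := cen_ok
      simp only [allN_iff, force_eq, Bool.or_eq_true, anyN_iff, Bool.not_eq_true'] at h
      have h8 : c >>> 5 < 256 := shift_lt (m := 8) (by norm_num at hc ⊢; omega)
      rcases h _ h8 with h | ⟨j, hj, h⟩
      · exact h0 (Nat.eq_of_beq_eq_true h)
      · refine br_ne_zero h ?_
        have hj' : lv j ∈ Sp 8191 :=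
          lv_mem hj (by interval_cases j <;> decide)
        have h1 := hz _ hj'
        rw [e, B_add_left] at h1
        have h2 : B (ofM (comb LV (c % 2 ^ 5))) (lv j) = 0 := by
          have h3 := brOK_spec z_zero hlow hj'
          rwa [sp_zero, Submodule.mem_bot] at h3
        rw [h2, zero_add] at h1
        exact h1

theorem stab_Z (hY : Five Y) : Stab Y (Sp 31) := by
  intro v hv
  rw [mem_Z] at hv ⊢
  refine ⟨stab_L hY _ hv.1, fun w hw => ?_⟩
  have e : Y *ᵥ ((Y ^ 4) *ᵥ w) = w := by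
    rw [Matrix.mulVec_mulVec, ← pow_succ', hY.five, Matrix.one_mulVec]
  rw [← e, hY.pres, hv.2 _ (stab_pow (stab_L hY) 4 _ hw), Matrix.mulVec_zero]

theorem sp_ZD : Sp 2047 = Sp 31 ⊔ Sp 0x7e7 := by
  refine le_antisymm (Submodule.span_le.2 ?_) (sup_le (sp_mono (by decide)) (sp_mono (by decide)))
  rintro x ⟨i, ⟨hi, hb⟩, rfl⟩
  by_cases h : i < 5
  · exact Submodule.mem_sup_left (lv_mem hi (by interval_cases i <;> decide))
  · refine Submodule.mem_sup_right (lv_mem hi ?_)
    interval_cases i <;> first | omega | decide | exact absurd hb (by decide)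

theorem stab_ZD (hY : Five Y) : Stab Y (Sp 2047) := by
  intro v hv
  rw [sp_ZD] at hv ⊢
  obtain ⟨a, ha, b, hb, rfl⟩ := Submodule.mem_sup.1 hv
  rw [Matrix.mulVec_add]
  exact add_mem (Submodule.mem_sup_left (stab_Z hY _ ha)) (Submodule.mem_sup_right (stab_D hY _ hb))

/-- The six coordinates between the centre and the complement. -/
noncomputable def hi6 : Vec →ₗ[ZMod 2] (Fin 6 → ZMod 2) :=
  (LinearMap.funLeft (ZMod 2) (ZMod 2) fun k : Fin 6 => de ⟨5 + k.val, by omega⟩).comp (toMat LCO).mulVecLin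

theorem hi6_ofM (t : ℕ) (k : Fin 6) : hi6 (ofM t) k = if (app LCO t).testBit (5 + k.val) then 1 else 0 := by
  show (toMat LCO *ᵥ ofM t) (de ⟨5 + k.val, _⟩) = _
  rw [← app_spec, ofM, en_de]

theorem hi6_DD {v : Vec} (hv : v ∈ Sp 7) : hi6 v = 0 := by
  induction hv using Submodule.span_induction with
  | mem x hx =>
    obtain ⟨i, ⟨hi, hb⟩, rfl⟩ := hx
    funext k
    have h := co_ok
    simp only [allN_iff] at h
    rw [lv, hi6_ofM, Nat.eq_of_beq_eq_true (h i hi), show Nat.pow 2 i = 2 ^ i from rfl, Nat.testBit_two_pow]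
    have : i < 3 := by
      by_contra h3
      have hb' := Nat.ge_two_pow_of_testBit hb
      have := Nat.pow_le_pow_right (show 0 < 2 by norm_num) (show 3 ≤ i by omega)
      omega
    rw [decide_eq_false (by omega)]
    rfl
  | zero => rw [map_zero]
  | add a b _ _ ha hb => rw [map_add, ha, hb, add_zero]
  | smul c a _ ha => rw [map_smul, ha, smul_zero]

/-- The six coordinates of a packed vector. -/
noncomputable def six (t : ℕ) : ℕ := Nat.land (Nat.shiftRight (app LCO t) 5) 63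

/-- The coordinate vector of a six bit number. -/
noncomputable def six6 (n : ℕ) : Fin 6 → ZMod 2 := fun k => if n.testBit k.val then 1 else 0

theorem hi6_six (t : ℕ) : hi6 (ofM t) = six6 (six t) := by
  funext k
  rw [hi6_ofM, six6]
  show _ = if ((app LCO t >>> 5) &&& 63).testBit k.val then 1 else 0
  have : (63 : ℕ).testBit k.val = true := by fin_cases k <;> decide
  rw [Nat.testBit_and, Nat.testBit_shiftRight, this, Bool.and_true]

/-- Three six bit numbers are independent. -/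
noncomputable def ind3 (a b c : ℕ) : Bool :=
  !(Nat.beq a 0) && !(Nat.beq b 0) && !(Nat.beq c 0) && !(Nat.beq a b) && !(Nat.beq a c) && !(Nat.beq b c) &&
    !(Nat.beq (Nat.xor a b) c)

theorem tri_ok : (allN 3 fun r => allN 63 fun q => force (comb LV (Nat.shiftLeft (Nat.succ r) 11)) fun z =>
    force (comb LV (Nat.shiftLeft (Nat.succ q) 5)) fun v => force (br z v) fun w1 => force (br z w1) fun w2 =>
      force (six v) fun a => force (six w1) fun b => force (six w2) fun c => ind3 a b c) = true := by decide +kernel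

theorem six6_indep {a b c : ℕ} (ha : a < 64) (hb : b < 64) (hc : c < 64) (h : ind3 a b c = true) :
    LinearIndependent (ZMod 2) ![six6 a, six6 b, six6 c] := by
  have hx : ∀ m n : ℕ, six6 m + six6 n = six6 (m ^^^ n) := by
    intro m n
    funext k
    simp only [six6, Pi.add_apply, Nat.testBit_xor]
    cases m.testBit k.val <;> cases n.testBit k.val <;> simp [CharTwo.add_self_eq_zero]
  have h0 : ∀ n < 64, six6 n = 0 → n = 0 := by
    intro n hn e
    refine Nat.eq_of_testBit_eq fun i => ?_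
    rw [Nat.zero_testBit]
    by_cases hi : i < 6
    · have := congrFun e ⟨i, hi⟩
      simp only [six6, Pi.zero_apply] at this
      cases h' : n.testBit i
      · rfl
      · rw [h', if_pos rfl] at this; exact absurd this one_ne_zero
    · exact Nat.testBit_lt_two_pow (lt_of_lt_of_le (show n < 2 ^ 6 by omega) (Nat.pow_le_pow_right (by norm_num) (show 6 ≤ i by omega)))
  simp only [ind3, Bool.and_eq_true, Bool.not_eq_true'] at h
  have ne : ∀ {m n : ℕ}, Nat.beq m n = false → m ≠ n := fun hb e => by subst e; simp at hb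
  obtain ⟨⟨⟨⟨⟨⟨ka, kb⟩, kc⟩, kab⟩, kac⟩, kbc⟩, kabc⟩ := h
  rw [Fintype.linearIndependent_iff]
  intro g hg
  rw [Fin.sum_univ_three] at hg
  simp only [Matrix.cons_val_zero, Matrix.cons_val_one, Matrix.cons_val_two, Matrix.head_cons, Matrix.tail_cons] at hg
  have z2 : ∀ x : ZMod 2, x = 0 ∨ x = 1 := by decide
  have p : (2 : ℕ) ^ 6 = 64 := by norm_num
  rcases z2 (g 0) with e0 | e0 <;> rcases z2 (g 1) with e1 | e1 <;> rcases z2 (g 2) with e2 | e2 <;>
    simp only [e0, e1, e2, zero_smul, one_smul, add_zero, zero_add, hx] at hg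
  · intro i; fin_cases i <;> assumption
  · exact absurd (h0 _ hc hg) (ne kc)
  · exact absurd (h0 _ hb hg) (ne kb)
  · exact absurd (Nat.xor_eq_zero_iff.1 (h0 _ (Nat.xor_lt_two_pow (n := 6) hb hc) hg)) (ne kbc)
  · exact absurd (h0 _ ha hg) (ne ka)
  · exact absurd (Nat.xor_eq_zero_iff.1 (h0 _ (Nat.xor_lt_two_pow (n := 6) ha hc) hg)) (ne kac)
  · exact absurd (Nat.xor_eq_zero_iff.1 (h0 _ (Nat.xor_lt_two_pow (n := 6) ha hb) hg)) (ne kab)
  · exact absurd (Nat.xor_eq_zero_iff.1 (h0 _ (Nat.xor_lt_two_pow (n := 6) (Nat.xor_lt_two_pow (n := 6) ha hb) hc) hg))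
      (ne kabc)

theorem six_lt (t : ℕ) : six t < 64 := by
  show (app LCO t >>> 5) &&& 63 < 64
  exact lt_of_le_of_lt Nat.and_le_right (by norm_num)

theorem B_diff (a b w u : Vec) : B (a + b) w - B b u = B a w + B b (w - u) := by
  have h : B b w = B b (w - u) + B b u := by rw [← B_add_right, sub_add_cancel]
  rw [B_add_left, h, ← add_assoc, add_sub_cancel_right]

theorem rank_add_le {K V W : Type*} [Field K] [AddCommGroup V] [Module K V] [AddCommGroup W] [Module K W]
    [FiniteDimensional K V] (f : V →ₗ[K] W) {S F : Submodule K V} (hS : S ≤ F) (hf : ∀ x ∈ S, f x = 0)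
    {k : ℕ} (u : Fin k → V) (hu : ∀ i, u i ∈ F) (li : LinearIndependent K fun i => f (u i)) :
    Module.finrank K S + k ≤ Module.finrank K F := by
  have hk : Module.finrank K S ≤ Module.finrank K (LinearMap.ker (f.comp F.subtype)) := by
    have hl : Submodule.comap F.subtype S ≤ LinearMap.ker (f.comp F.subtype) := fun x hx => by
      rw [LinearMap.mem_ker]; exact hf _ hx
    refine le_trans ?_ (Submodule.finrank_mono hl)
    rw [LinearEquiv.finrank_eq (Submodule.comapSubtypeEquivOfLe hS)]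
  have hr : k ≤ Module.finrank K (LinearMap.range (f.comp F.subtype)) := by
    have hsub : Submodule.span K (Set.range fun i => f (u i)) ≤ LinearMap.range (f.comp F.subtype) := by
      rw [Submodule.span_le]
      rintro x ⟨i, rfl⟩
      exact ⟨⟨_, hu i⟩, rfl⟩
    refine le_trans ?_ (Submodule.finrank_mono hsub)
    rw [finrank_span_eq_card li, Fintype.card_fin]
  have := (f.comp F.subtype).finrank_range_add_finrank_ker
  omega

attribute [local irreducible] comb br app six B hi6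

theorem fixed_rank_six (hY : Five Y) {z v : Vec} (hz : z ∈ Sp 8191) (hzf : z ∈ fixS Y) (hzn : z ∉ Sp 2047)
    (hv : v ∈ Sp 0x7e7) (hvf : v ∈ fixS Y) (hvn : v ∉ Sp 7) (hDD : Sp 7 ≤ fixS Y) :
    6 ≤ Module.finrank (ZMod 2) (Sp 0x7e7 ⊓ fixS Y : Submodule (ZMod 2) Vec) := by
  obtain ⟨c, hc, _, hzc⟩ := exists_comb hz
  obtain ⟨d, hd, hdm, hvd⟩ := exists_comb hv
  have hzl : ofM (comb LV (c % 2 ^ 11)) ∈ Sp 2047 := by
    refine comb_mem fun i hi hb => ?_
    rw [Nat.testBit_mod_two_pow, Bool.and_eq_true, decide_eq_true_eq] at hb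
    have := hb.1
    interval_cases i <;> decide
  have hr0 : c >>> 11 ≠ 0 := by
    intro e
    apply hzn
    rw [hzc, xor_split c 11, e, Nat.zero_shiftLeft, Nat.xor_zero]
    exact hzl
  have hr4 : c >>> 11 < 4 := shift_lt (m := 2) (by norm_num at hc ⊢; omega)
  have hvl : ofM (comb LV (d % 2 ^ 5)) ∈ Sp 7 := by
    refine comb_mem fun i hi hb => ?_
    rw [Nat.testBit_mod_two_pow, Bool.and_eq_true, decide_eq_true_eq] at hb
    have h1 := hdm i hb.2
    have := hb.1
    interval_cases i <;> first | decide | exact absurd h1 (by decide)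
  have hq0 : d >>> 5 ≠ 0 := by
    intro e
    apply hvn
    rw [hvd, xor_split d 5, e, Nat.zero_shiftLeft, Nat.xor_zero]
    exact hvl
  have hq64 : d >>> 5 < 64 := by
    have hd11 : d < 2 ^ 11 := by
      refine Nat.lt_of_testBit 11 ?_ Nat.testBit_two_pow_self ?_
      · cases e : d.testBit 11
        · rfl
        · exact absurd (hdm _ e) (by decide)
      · intro j hj
        rw [Nat.testBit_two_pow, decide_eq_false (by omega)]
        cases e : d.testBit j
        · rfl
        · have h := hdm _ e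
          have : (0x7e7 : ℕ) < 2 ^ j := lt_of_lt_of_le (by norm_num) (Nat.pow_le_pow_right (by norm_num) hj.le)
          rw [Nat.testBit_lt_two_pow this] at h
          exact absurd h Bool.false_ne_true
    exact shift_lt (m := 6) (by norm_num at hd11 ⊢; omega)
  obtain ⟨z0, hz0⟩ : ∃ u, u = ofM (comb LV ((c >>> 11) <<< 11)) := ⟨_, rfl⟩
  obtain ⟨v0, hv0⟩ : ∃ u, u = ofM (comb LV ((d >>> 5) <<< 5)) := ⟨_, rfl⟩
  obtain ⟨zl, hzl0⟩ : ∃ u, u = ofM (comb LV (c % 2 ^ 11)) := ⟨_, rfl⟩
  obtain ⟨vl, hvl0⟩ : ∃ u, u = ofM (comb LV (d % 2 ^ 5)) := ⟨_, rfl⟩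
  rw [← hzl0] at hzl
  rw [← hvl0] at hvl
  have ez : z = zl + z0 := by rw [hzc, hzl0, hz0, ← comb_xor, ← xor_split]
  have ev : v = vl + v0 := by rw [hvd, hvl0, hv0, ← comb_xor, ← xor_split]
  have hz0L : z0 ∈ Sp 8191 := hz0 ▸ comb_mem fun i hi _ => by interval_cases i <;> decide
  have hzlL : zl ∈ Sp 8191 := sp_mono (by decide) hzl
  have hv0D : v0 ∈ Sp 0x7e7 := by
    have h := sub_mem hv (sp_mono (m := 7) (m' := 0x7e7) (by decide) hvl)
    rwa [ev, add_sub_cancel_left] at h
  have hDL : ∀ {w}, w ∈ Sp 0x7e7 → w ∈ Sp 8191 := fun hw => sp_mono (by decide) hw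
  have w1D : B z v ∈ Sp 0x7e7 := brOK_spec ll_D hz (hDL hv)
  have w2D : B z (B z v) ∈ Sp 0x7e7 := brOK_spec ll_D hz (hDL w1D)
  have d1 : B z v - B z0 v0 ∈ Sp 7 := by
    rw [ez, B_diff, ev, add_sub_cancel_right, ← ev]
    exact add_mem (brOK_spec zd_DD hzl hv) (brOK_spec ldd_DD hz0L hvl)
  have d2 : B z (B z v) - B z0 (B z0 v0) ∈ Sp 7 := by
    have e := B_diff zl z0 (B z v) (B z0 v0)
    rw [← ez] at e
    rw [e]
    exact add_mem (brOK_spec zd_DD hzl w1D) (brOK_spec ldd_DD hz0L d1)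
  have h := tri_ok
  simp only [allN_iff, force_eq] at h
  have h3 := h ((c >>> 11) - 1) (by omega) ((d >>> 5) - 1) (by omega)
  rw [Nat.succ_eq_add_one, Nat.succ_eq_add_one, Nat.sub_add_cancel (by omega), Nat.sub_add_cancel (by omega)] at h3
  have li := six6_indep (six_lt _) (six_lt _) (six_lt _) h3
  have e0 : hi6 v = six6 (six (comb LV ((d >>> 5) <<< 5))) := by
    rw [ev, map_add, hi6_DD hvl, zero_add, hv0, hi6_six]
  have e1 : hi6 (B z v) = six6 (six (br (comb LV ((c >>> 11) <<< 11)) (comb LV ((d >>> 5) <<< 5)))) := by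
    rw [← hi6_six, br_spec, ← hz0, ← hv0, ← sub_eq_zero, ← map_sub]
    exact hi6_DD d1
  have e2 : hi6 (B z (B z v)) = six6 (six (br (comb LV ((c >>> 11) <<< 11))
      (br (comb LV ((c >>> 11) <<< 11)) (comb LV ((d >>> 5) <<< 5))))) := by
    rw [← hi6_six, br_spec, br_spec, ← hz0, ← hv0, ← sub_eq_zero, ← map_sub]
    exact hi6_DD d2
  have hz' := mem_fixS.1 hzf
  have w1f : B z v ∈ fixS Y := by rw [mem_fixS, ← hY.pres, hz', mem_fixS.1 hvf]
  have w2f : B z (B z v) ∈ fixS Y := by rw [mem_fixS, ← hY.pres, hz', mem_fixS.1 w1f]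
  set F : Submodule (ZMod 2) Vec := Sp 0x7e7 ⊓ fixS Y
  have hmem : ∀ i : Fin 3, ![v, B z v, B z (B z v)] i ∈ F := by
    intro i; fin_cases i
    exacts [⟨hv, hvf⟩, ⟨w1D, w1f⟩, ⟨w2D, w2f⟩]
  have hDF : Sp 7 ≤ F := le_inf (sp_mono (by decide)) hDD
  have li' : LinearIndependent (ZMod 2) (fun i => hi6 (![v, B z v, B z (B z v)] i)) := by
    have e : (fun i => hi6 (![v, B z v, B z (B z v)] i)) = ![hi6 v, hi6 (B z v), hi6 (B z (B z v))] := by
      funext i; fin_cases i <;> rfl
    rw [e, e0, e1, e2]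
    exact li
  have := rank_add_le hi6 hDF (fun x hx => hi6_DD hx) _ hmem li'
  rw [rank_DD] at this
  exact this

theorem fix_of_le {S : Submodule (ZMod 2) Vec}
    (h : Module.finrank (ZMod 2) S ≤ Module.finrank (ZMod 2) (S ⊓ fixS Y : Submodule (ZMod 2) Vec)) :
    S ≤ fixS Y :=
  inf_eq_left.1 (Submodule.eq_of_le_of_finrank_le inf_le_left h)

/-- The automorphism is trivial on the fixed space. -/
theorem fix_L (hY : Five Y) : ∀ v ∈ Sp 8191, Y *ᵥ v = v := by
  have lo : ∀ {S S' : Submodule (ZMod 2) Vec}, S' ≤ S → S' ≤ fixS Y →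
      Module.finrank (ZMod 2) S' ≤ Module.finrank (ZMod 2) (S ⊓ fixS Y : Submodule (ZMod 2) Vec) :=
    fun h h' => Submodule.finrank_mono (le_inf h h')
  have up : ∀ S : Submodule (ZMod 2) Vec,
      Module.finrank (ZMod 2) (S ⊓ fixS Y : Submodule (ZMod 2) Vec) ≤ Module.finrank (ZMod 2) S :=
    fun S => Submodule.finrank_mono inf_le_left
  have hDD : Sp 7 ≤ fixS Y := by
    have h := fix_mod hY (stab_DD hY) (sp_mono (by decide))
    have h2 := up (Sp 7)
    rw [rank_DD] at h h2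
    refine fix_of_le ?_
    rw [rank_DD]
    omega
  have hZ : Sp 31 ≤ fixS Y := by
    have h := fix_mod hY (stab_Z hY) (sp_mono (by decide))
    have h1 := lo (S := Sp 31) (sp_mono (by decide)) hDD
    have h2 := up (Sp 31)
    rw [rank_Z] at h h2
    rw [rank_DD] at h1
    refine fix_of_le ?_
    rw [rank_Z]
    omega
  have hmodL := fix_mod hY (stab_L hY) le_rfl
  rw [rank_L] at hmodL
  have hZD : Sp 2047 ≤ fixS Y := by
    have h := fix_mod hY (stab_ZD hY) (sp_mono (by decide))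
    have h1 := lo (S := Sp 2047) (sp_mono (by decide)) hZ
    have h2 := up (Sp 2047)
    rw [rank_ZD] at h h2
    rw [rank_Z] at h1
    refine fix_of_le ?_
    rw [rank_ZD]
    by_contra hcon
    have hLF : Module.finrank (ZMod 2) (Sp 2047 ⊓ fixS Y : Submodule (ZMod 2) Vec) ≤
        Module.finrank (ZMod 2) (Sp 8191 ⊓ fixS Y : Submodule (ZMod 2) Vec) :=
      Submodule.finrank_mono (inf_le_inf_right _ (sp_mono (by decide)))
    obtain ⟨z, ⟨hz, hzf⟩, hzn⟩ : ∃ z, z ∈ (Sp 8191 ⊓ fixS Y : Submodule (ZMod 2) Vec) ∧ z ∉ Sp 2047 := by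
      by_contra hno
      push Not at hno
      have : Module.finrank (ZMod 2) (Sp 8191 ⊓ fixS Y : Submodule (ZMod 2) Vec) ≤
          Module.finrank (ZMod 2) (Sp 2047 ⊓ fixS Y : Submodule (ZMod 2) Vec) :=
        Submodule.finrank_mono fun x hx => ⟨hno x hx, hx.2⟩
      omega
    have hD := fix_mod hY (stab_D hY) (sp_mono (by decide))
    rw [rank_D] at hD
    have hD1 := lo (S := Sp 0x7e7) (sp_mono (by decide)) hDD
    rw [rank_DD] at hD1
    obtain ⟨v, ⟨hv, hvf⟩, hvn⟩ : ∃ v, v ∈ (Sp 0x7e7 ⊓ fixS Y : Submodule (ZMod 2) Vec) ∧ v ∉ Sp 7 := by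
      by_contra hno
      push Not at hno
      have : Module.finrank (ZMod 2) (Sp 0x7e7 ⊓ fixS Y : Submodule (ZMod 2) Vec) ≤
          Module.finrank (ZMod 2) (Sp 7) :=
        Submodule.finrank_mono fun x hx => hno x hx
      rw [rank_DD] at this
      omega
    have h6 := fixed_rank_six hY hz hzf hzn hv hvf hvn hDD
    have h9 := up (Sp 0x7e7)
    rw [rank_D] at h9
    have hDf : Sp 0x7e7 ≤ fixS Y := fix_of_le (by rw [rank_D]; omega)
    have hall : Sp 2047 ≤ fixS Y := sp_ZD ▸ sup_le hZ hDf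
    rw [inf_eq_left.2 hall, rank_ZD] at hcon
    omega
  have h1 := lo (S := Sp 8191) (sp_mono (by decide)) hZD
  have h2 := up (Sp 8191)
  rw [rank_L] at h2
  rw [rank_ZD] at h1
  have hL : Sp 8191 ≤ fixS Y := fix_of_le (by rw [rank_L]; omega)
  exact fun v hv => hL hv

end CfsgLib.E7Sixtyfive
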