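/-
Only the identity among automorphisms of order dividing five commutes with the element of order 13.
-/
import Cfsg.Agent.Lib.E7Sixtyfive.Trivial
import Cfsg.Agent.Lib.E7Sixtyfive.CertData

set_option autoImplicit false
set_option maxRecDepth 100000

namespace CfsgLib.E7Sixtyfive

open Cfsg.Lie Matrix
open CfsgLib.Chev (force force_eq allN allN_iff anyN anyN_iff)

variable {Y : Matrix Ix Ix (ZMod 2)}

theorem pow_mem_fix {v : Vec} (h : T *ᵥ v = v) : v ∈ Sp 8191 := mem_fix.2 h

theorem B_def (v w : Vec) : B v w = adV v *ᵥ w := rfl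

theorem commM {y a b : Matrix Ix Ix (ZMod 2)} (ha : y * a = a * y) (hb : y * b = b * y) :
    y * (a * b) = a * b * y := by
  rw [← Matrix.mul_assoc, ha, Matrix.mul_assoc, hb, ← Matrix.mul_assoc]

theorem commM_pow {y a : Matrix Ix Ix (ZMod 2)} (ha : y * a = a * y) (k : ℕ) : y * a ^ k = a ^ k * y := by
  induction k with
  | zero => rw [pow_zero, mul_one, one_mul]
  | succ k ih => rw [pow_succ]; exact commM ih ha

attribute [local irreducible] T toMat comb br app B Mh pN wit fifth TPI TF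

theorem commute_adV (hY : Five Y) {l : Vec} (hl : Y *ᵥ l = l) : Y * adV l = adV l * Y := by
  refine ext_single fun y => ?_
  rw [← Matrix.mulVec_mulVec, ← Matrix.mulVec_mulVec]
  rw [← B_def, ← B_def]
  conv_rhs => rw [← hl]
  rw [hY.pres]

/-- The projection to the orbit. -/
noncomputable def Pm : Matrix Ix Ix (ZMod 2) :=
  (adV (ofM (comb LV 5)) + toMat TF) * (adV (ofM (comb LV 256)) * (adV (ofM (comb LV 192)) * (T + 1)))

theorem pN_spec (e : ℕ) : ofM (pN e) = Pm *ᵥ ofM e := by
  have h1 : ofM (Nat.xor (app (gx TP 1) e) e) = (T + 1) *ᵥ ofM e := by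
    show ofM (app (gx TP 1) e ^^^ e) = _
    rw [ofM_xor, app_spec, Matrix.add_mulVec, Matrix.one_mulVec, T]
  simp only [pN, force_eq]
  show ofM (_ ^^^ _) = _
  rw [ofM_xor, app_spec, br_spec, br_spec, br_spec, h1, Pm]
  simp only [← Matrix.mulVec_mulVec, Matrix.add_mulVec, B_def]

theorem commute_T_pow (hY : Y * T = T * Y) (k : ℕ) : Y * T ^ k = T ^ k * Y := commM_pow hY k

theorem commute_Pm (hY : Five Y) : Y * Pm = Pm * Y := by
  have hl : ∀ c, Y * adV (ofM (comb LV c)) = adV (ofM (comb LV c)) * Y := fun c =>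
    commute_adV hY (fix_L hY _ (comb_mem fun i hi _ => by interval_cases i <;> decide))
  have hF : Y * toMat TF = toMat TF * Y := by
    rw [toMat_TF]
    simp only [mul_add, add_mul, mul_one, one_mul, commute_T_pow hY.comm]
  have h1 : Y * (adV (ofM (comb LV 5)) + toMat TF) = (adV (ofM (comb LV 5)) + toMat TF) * Y := by
    rw [mul_add, add_mul, hl, hF]
  have h2 : Y * (T + 1) = (T + 1) * Y := by rw [mul_add, add_mul, hY.comm, mul_one, one_mul]
  exact commM h1 (commM (hl _) (commM (hl _) h2))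

theorem Pm_range (v : Vec) : ∃ c, c < 4096 ∧ Pm *ᵥ v = ofM (comb ORB c) := by
  have h2 : v = ∑ x, v x • (Pi.single x 1 : Vec) := by
    funext y; simp [Finset.sum_apply, Pi.single_apply]
  rw [h2, Matrix.mulVec_sum]
  refine Finset.sum_induction _ (fun w => ∃ c, c < 4096 ∧ w = ofM (comb ORB c)) ?_ ?_ ?_
  · rintro a b ⟨c, hc, rfl⟩ ⟨d, hd, rfl⟩
    exact ⟨c ^^^ d, Nat.xor_lt_two_pow (n := 12) hc hd, (comb_xor _ _ _).symm⟩
  · exact ⟨0, by norm_num, (comb_zero _).symm⟩
  · intro x _
    rw [Matrix.mulVec_smul]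
    rcases (by decide : ∀ a : ZMod 2, a = 0 ∨ a = 1) (v x) with e | e
    · exact ⟨0, by norm_num, by rw [e, zero_smul, comb_zero]⟩
    · rw [e, one_smul, ← ofM_single x rfl, ← pN_spec]
      have h := p_ok
      simp only [allN_iff, force_eq, Bool.and_eq_true, Nat.blt_eq] at h
      obtain ⟨h1, h3⟩ := h (en x) (en_lt x)
      exact ⟨_, h3, by rw [Nat.eq_of_beq_eq_true h1]; rfl⟩

theorem exists_mult (hY : Five Y) : ∃ c, c < 4096 ∧ Y *ᵥ v0 = Mh c *ᵥ v0 := by
  have h0 : v0 = Pm *ᵥ ofM (Nat.pow 2 4) := by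
    rw [← pN_spec, Nat.eq_of_beq_eq_true p_start]; rfl
  obtain ⟨c, hc, e⟩ := Pm_range (Y *ᵥ ofM (Nat.pow 2 4))
  refine ⟨c, hc, ?_⟩
  rw [← comb_orb, ← e]
  conv_lhs => rw [h0, Matrix.mulVec_mulVec, commute_Pm hY, ← Matrix.mulVec_mulVec]

theorem move_Mh (hY : Five Y) {c : ℕ} (hc : c < 4096) (he : Y *ᵥ v0 = Mh c *ᵥ v0) (g : ℕ) :
    Y *ᵥ (Mh g *ᵥ v0) = Mh (mulC c g) *ᵥ v0 := by
  rw [Matrix.mulVec_mulVec, (commute_Mh hY.comm g).eq, ← Matrix.mulVec_mulVec, he, Matrix.mulVec_mulVec,
    ← (mulC_spec (show c < 8192 by omega) g).2]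

theorem mult_sol (hY : Five Y) {c : ℕ} (hc : c < 4096) (he : Y *ᵥ v0 = Mh c *ᵥ v0) : isSol c = true := by
  have hc' : c < 8192 := by omega
  have c2 := mulC_spec hc' c
  have c4 := mulC_spec c2.1 (mulC c c)
  have c5 := mulC_spec hc' (mulC (mulC c c) (mulC c c))
  have e : Mh (fifth c) = (Mh c) ^ 5 := by
    simp only [fifth, force_eq]
    rw [c5.2, c4.2, c2.2]
    simp only [pow_succ, pow_zero, one_mul, mul_assoc]
  have hn : ∀ n : ℕ, (Y ^ n) *ᵥ v0 = ((Mh c) ^ n) *ᵥ v0 := by
    intro n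
    induction n with
    | zero => rw [pow_zero, pow_zero]
    | succ n ih =>
      rw [pow_succ', ← Matrix.mulVec_mulVec, ih, Matrix.mulVec_mulVec,
        commM_pow (commute_Mh hY.comm c).eq n, ← Matrix.mulVec_mulVec, he, Matrix.mulVec_mulVec, ← pow_succ]
  have h5 : ofM (comb ORB (fifth c)) = ofM (gx ORB 0) := by
    rw [comb_orb, e, ← hn 5, hY.five, Matrix.one_mulVec]; rfl
  have h6 : comb ORB (fifth c) = gx ORB 0 := by
    have ho := orb_ok
    simp only [Bool.and_eq_true, allN_iff, Nat.blt_eq] at ho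
    exact ofM_inj (comb_lt (fun a ha => orb_lt ha) _) (ho.2 0 (by norm_num)) h5
  have key : ∀ lo, solOK lo = true → lo ≤ c → c < lo + 512 → isSol c = true := by
    intro lo h h1 h2
    simp only [solOK, allN_iff, force_eq] at h
    have h3 := h (c - lo) (by omega)
    rw [show Nat.add lo (c - lo) = c from by show lo + (c - lo) = c; omega, h6,
      show Nat.beq (gx ORB 0) (gx ORB 0) = true from Nat.beq_refl _, cond_true] at h3
    exact h3
  by_cases a1 : c < 512
  · exact key _ sol0 (by omega) (by omega)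
  by_cases a2 : c < 1024
  · exact key _ sol1 (by omega) (by omega)
  by_cases a3 : c < 1536
  · exact key _ sol2 (by omega) (by omega)
  by_cases a4 : c < 2048
  · exact key _ sol3 (by omega) (by omega)
  by_cases a5 : c < 2560
  · exact key _ sol4 (by omega) (by omega)
  by_cases a6 : c < 3072
  · exact key _ sol5 (by omega) (by omega)
  by_cases a7 : c < 3584
  · exact key _ sol6 (by omega) (by omega)
  exact key _ sol7 (by omega) (by omega)

theorem TPI_mem (w : Vec) : toMat TPI *ᵥ w ∈ Sp 8191 := by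
  have h2 : w = ∑ x, w x • (Pi.single x 1 : Vec) := by
    funext y; simp [Finset.sum_apply, Pi.single_apply]
  rw [h2, Matrix.mulVec_sum]
  refine sum_mem fun x _ => ?_
  rw [Matrix.mulVec_smul, toMat_mulVec_single]
  refine Submodule.smul_mem _ _ ?_
  have h := pi_ok
  simp only [allN_iff] at h
  exact inS_spec (h (en x) (en_lt x))

theorem wit_eq (hY : Five Y) {c : ℕ} (hc : c < 4096) (he : Y *ᵥ v0 = Mh c *ᵥ v0) :
    ofM (wit c) = ofM (wit 1) := by
  have hb : ∀ i < 12, ofM (comb ORB (mulC c (Nat.pow 2 i))) = Y *ᵥ ofM (comb ORB (mulC 1 (Nat.pow 2 i))) := by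
    intro i hi
    have h := one_mulC
    simp only [allN_iff] at h
    rw [Nat.eq_of_beq_eq_true (h i hi), comb_orb, comb_orb, move_Mh hY hc he]
  have hl : ∀ i < 13, ofM (gx LV i) = Y *ᵥ ofM (gx LV i) := fun i hi =>
    (fix_L hY (lv i) (lv_mem hi (by interval_cases i <;> decide))).symm
  have hpi : Y * toMat TPI = toMat TPI * Y := by
    rw [toMat_TPI, Finset.mul_sum, Finset.sum_mul]
    exact Finset.sum_congr rfl fun k _ => commute_T_pow hY.comm k
  simp only [wit, force_eq]
  rw [app_spec, br_spec, br_spec, br_spec, br_spec, br_spec, hb 9 (by norm_num), hb 3 (by norm_num),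
    hb 0 (by norm_num), hl 5 (by norm_num), hl 7 (by norm_num), hl 0 (by norm_num), hY.pres, hY.pres, hY.pres,
    hY.pres, hY.pres, Matrix.mulVec_mulVec,
    ← hpi, ← Matrix.mulVec_mulVec, app_spec, br_spec, br_spec, br_spec, br_spec, br_spec]
  exact fix_L hY _ (TPI_mem _)

theorem mult_one (hY : Five Y) : Y *ᵥ v0 = Mh 1 *ᵥ v0 := by
  obtain ⟨c, hc, he⟩ := exists_mult hY
  have hs := mult_sol hY hc he
  have hw := wit_eq hY hc he
  have h := wit_ok
  simp only [force_eq, Bool.and_eq_true, Bool.not_eq_true'] at h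
  simp only [isSol, Bool.or_eq_true] at hs
  have no : ∀ d, Nat.beq c d = true → Nat.beq (wit d) (wit 1) = false → False := by
    intro d hd hf
    obtain rfl := Nat.eq_of_beq_eq_true hd
    have lt : ∀ k, wit k < 2 ^ 133 := fun k => by
      simp only [wit, force_eq]
      exact app_lt _ _
    rw [ofM_inj (lt _) (lt _) hw] at hf
    simp at hf
  rcases hs with (((h' | h') | h') | h') | h'
  · obtain rfl := Nat.eq_of_beq_eq_true h'
    exact he
  · exact (no _ h' h.1.1.1).elim
  · exact (no _ h' h.1.1.2).elim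
  · exact (no _ h' h.1.2).elim
  · exact (no _ h' h.2).elim

/-- An automorphism of order dividing five commuting with the element of order 13 is the identity. -/
theorem five_eq_one (hY : Five Y) : Y = 1 := by
  have he := mult_one hY
  have horb : ∀ g, g < 12 → Y *ᵥ ofM (gx ORB g) = ofM (gx ORB g) := by
    intro g hg
    have h := one_mulC
    simp only [allN_iff] at h
    rw [← comb_two_pow ORB (by rw [ORB_length]; omega), comb_orb, move_Mh hY (by norm_num) he,
      show mulC 1 (2 ^ g) = 2 ^ g from Nat.eq_of_beq_eq_true (h g hg)]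
  have hgen : ∀ g, g < 25 → Y *ᵥ ofM (gen g) = ofM (gen g) := by
    intro g hg
    by_cases h : g < 13
    · rw [gen, show Nat.blt g 13 = true from Nat.blt_eq ▸ h, cond_true]
      exact fix_L hY (lv g) (lv_mem h (by interval_cases g <;> decide))
    · rw [gen, show Nat.blt g 13 = false from by rw [Bool.eq_false_iff, ne_eq, Nat.blt_eq]; exact h, cond_false]
      exact horb _ (by show g - 13 < 12; omega)
  have hv := vs_ok
  simp only [Bool.and_eq_true, allN_iff, Nat.blt_eq] at hv
  have hvs : ∀ n, n < 133 → Y *ᵥ ofM (gx VS n) = ofM (gx VS n) := by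
    intro n
    induction n using Nat.strong_induction_on with
    | _ n ih =>
      intro hn
      by_cases h : n < 12
      · rw [Nat.eq_of_beq_eq_true (hv.1 n h)]
        exact horb n h
      · obtain ⟨m, rfl⟩ : ∃ m, n = 12 + m := ⟨n - 12, by omega⟩
        obtain ⟨⟨h1, h2⟩, h3⟩ := hv.2 m (by omega)
        change gx DP m < 12 + m at h1
        have h4 := Nat.eq_of_beq_eq_true h3
        change gx VS (12 + m) = _ at h4
        rw [h4, br_spec, ← hY.pres, hgen _ h2, ih _ h1 (by omega)]
  refine ext_single fun y => ?_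
  have hi := inv_ok
  simp only [allN_iff] at hi
  have h := Nat.eq_of_beq_eq_true (hi (en y) (en_lt y))
  rw [Matrix.one_mulVec, ← ofM_single y rfl, show (2 : ℕ) ^ en y = Nat.pow 2 (en y) from rfl, ← h, comb_spec,
    Matrix.mulVec_sum]
  refine Finset.sum_congr rfl fun i _ => ?_
  cases (gx INV (en y)).testBit i.val
  · simp
  · rw [if_pos rfl, ← gx_length i]
    exact hvs i.val (by have := i.isLt; have := VS_length; omega)

end CfsgLib.E7Sixtyfive
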