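/-
Computable models of the fields with 8 and 64 elements and their maps into any such field.
-/
import Mathlib

set_option autoImplicit false

namespace CfsgLib.E7Sixtyfive

/-- Polynomials over two elements modulo `X ^ 3 + X + 1`. -/
@[ext]
structure Q8 where
  a : ZMod 2
  b : ZMod 2
  c : ZMod 2
  deriving DecidableEq, Fintype

instance : Zero Q8 := ⟨⟨0, 0, 0⟩⟩
instance : One Q8 := ⟨⟨1, 0, 0⟩⟩
instance : Add Q8 := ⟨fun x y => ⟨x.a + y.a, x.b + y.b, x.c + y.c⟩⟩
instance : Neg Q8 := ⟨fun x => ⟨-x.a, -x.b, -x.c⟩⟩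
instance : Mul Q8 := ⟨fun x y => ⟨x.a * y.a + (x.b * y.c + x.c * y.b),
  x.a * y.b + x.b * y.a + (x.b * y.c + x.c * y.b) + x.c * y.c,
  x.a * y.c + x.b * y.b + x.c * y.a + x.c * y.c⟩⟩

@[simp] theorem Q8.zero_def : (0 : Q8) = ⟨0, 0, 0⟩ := rfl
@[simp] theorem Q8.one_def : (1 : Q8) = ⟨1, 0, 0⟩ := rfl
@[simp] theorem Q8.add_def (x y : Q8) : x + y = ⟨x.a + y.a, x.b + y.b, x.c + y.c⟩ := rfl
@[simp] theorem Q8.neg_def (x : Q8) : -x = ⟨-x.a, -x.b, -x.c⟩ := rfl
@[simp] theorem Q8.mul_def (x y : Q8) : x * y = ⟨x.a * y.a + (x.b * y.c + x.c * y.b),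
  x.a * y.b + x.b * y.a + (x.b * y.c + x.c * y.b) + x.c * y.c,
  x.a * y.c + x.b * y.b + x.c * y.a + x.c * y.c⟩ := rfl

instance : CommRing Q8 := CommRing.ofMinimalAxioms
  (by intro x y z; ext <;> simp [add_assoc])
  (by intro x; ext <;> simp)
  (by intro x; ext <;> simp [CharTwo.add_self_eq_zero])
  (by intro x y z; ext <;> simp <;> ring)
  (by intro x y; ext <;> simp <;> ring)
  (by intro x; ext <;> simp)
  (by intro x y z; ext <;> simp <;> ring)

/-- The quadratic extension by a root of `X ^ 2 + X + 1`. -/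
@[ext]
structure Q64 where
  re : Q8
  im : Q8
  deriving DecidableEq, Fintype

instance : Zero Q64 := ⟨⟨0, 0⟩⟩
instance : One Q64 := ⟨⟨1, 0⟩⟩
instance : Add Q64 := ⟨fun x y => ⟨x.re + y.re, x.im + y.im⟩⟩
instance : Neg Q64 := ⟨fun x => ⟨-x.re, -x.im⟩⟩
instance : Mul Q64 := ⟨fun x y => ⟨x.re * y.re - x.im * y.im, x.re * y.im + x.im * y.re - x.im * y.im⟩⟩

theorem Q64.zero_def : (0 : Q64) = ⟨0, 0⟩ := rfl
theorem Q64.one_def : (1 : Q64) = ⟨1, 0⟩ := rfl
theorem Q64.add_def (x y : Q64) : x + y = ⟨x.re + y.re, x.im + y.im⟩ := rfl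
theorem Q64.neg_def (x : Q64) : -x = ⟨-x.re, -x.im⟩ := rfl
theorem Q64.mul_def (x y : Q64) :
    x * y = ⟨x.re * y.re - x.im * y.im, x.re * y.im + x.im * y.re - x.im * y.im⟩ := rfl

instance : CommRing Q64 := CommRing.ofMinimalAxioms
  (by intro x y z; refine Q64.ext ?_ ?_ <;> exact add_assoc _ _ _)
  (by intro x; refine Q64.ext ?_ ?_ <;> exact zero_add _)
  (by intro x; refine Q64.ext ?_ ?_ <;> exact neg_add_cancel _)
  (by intro x y z; simp only [Q64.mul_def]; refine Q64.ext ?_ ?_ <;> dsimp only <;> ring)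
  (by intro x y; simp only [Q64.mul_def]; refine Q64.ext ?_ ?_ <;> dsimp only <;> ring)
  (by intro x; simp only [Q64.mul_def, Q64.one_def]; refine Q64.ext ?_ ?_ <;> dsimp only <;> ring)
  (by intro x y z; simp only [Q64.mul_def, Q64.add_def]; refine Q64.ext ?_ ?_ <;> dsimp only <;> ring)

theorem Q8.pow_seven : ∀ x : Q8, x ≠ 0 → x * (x * x) * ((x * x) * (x * x)) = 1 := by decide +kernel

theorem Q64.inv_exists : ∀ x : Q64, x ≠ 0 → ∃ y : Q64, x * y = 1 := by decide +kernel

theorem injective_Q8 {F : Type*} [CommRing F] [Nontrivial F] (f : Q8 →+* F) : Function.Injective f := by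
  rw [injective_iff_map_eq_zero]
  intro x hx
  by_contra h
  have := congrArg f (Q8.pow_seven x h)
  simp only [map_mul, hx, map_one, zero_mul] at this
  exact zero_ne_one this

theorem injective_Q64 {F : Type*} [CommRing F] [Nontrivial F] (f : Q64 →+* F) : Function.Injective f := by
  rw [injective_iff_map_eq_zero]
  intro x hx
  by_contra h
  obtain ⟨y, hy⟩ := Q64.inv_exists x h
  have := congrArg f hy
  rw [map_mul, hx, map_one, zero_mul] at this
  exact zero_ne_one this

variable {F : Type*} [Field F] [Fintype F]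

theorem two_eq_zero {n : ℕ} (hn : Fintype.card F = 2 ^ n) : (2 : F) = 0 := by
  have h : ((Fintype.card F : ℕ) : F) = 0 := Nat.cast_card_eq_zero F
  rw [hn, Nat.cast_pow, Nat.cast_ofNat] at h
  exact eq_zero_of_pow_eq_zero h

theorem exists_root3 {n : ℕ} (hn : Fintype.card F = 2 ^ n) (h7 : 7 ∣ Fintype.card F - 1) :
    ∃ r : F, r ^ 3 + r + 1 = 0 := by
  classical
  have h2 := two_eq_zero hn
  have : Fact (Nat.Prime 7) := ⟨by norm_num⟩
  obtain ⟨u, hu⟩ := exists_prime_orderOf_dvd_card 7 (G := Fˣ) (by rwa [Fintype.card_units])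
  have h := congrArg Units.val (hu ▸ pow_orderOf_eq_one u)
  rw [Units.val_pow_eq_pow_val, Units.val_one] at h
  have hne : (u : F) - 1 ≠ 0 := by
    intro e
    have e1 : u = 1 := Units.ext (sub_eq_zero.1 e)
    rw [e1, orderOf_one] at hu
    norm_num at hu
  have e : ((u : F) - 1) * (((u : F) ^ 3 + u + 1) * ((u : F) ^ 3 + (u : F) ^ 2 + 1)) = 0 := by
    linear_combination h + ((u : F) ^ 4 - (u : F) ^ 3) * h2
  rcases mul_eq_zero.1 ((mul_eq_zero.1 e).resolve_left hne) with e | e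
  · exact ⟨_, e⟩
  · refine ⟨(u : F) ^ 6, ?_⟩
    linear_combination ((u : F) ^ 11 + (u : F) ^ 4) * h + (u : F) ^ 4 * e - h

theorem exists_root2 {n : ℕ} (h3 : 3 ∣ Fintype.card F - 1) (_hn : Fintype.card F = 2 ^ n) :
    ∃ r : F, r ^ 2 + r + 1 = 0 := by
  classical
  have : Fact (Nat.Prime 3) := ⟨by norm_num⟩
  obtain ⟨u, hu⟩ := exists_prime_orderOf_dvd_card 3 (G := Fˣ) (by rwa [Fintype.card_units])
  have h := congrArg Units.val (hu ▸ pow_orderOf_eq_one u)
  rw [Units.val_pow_eq_pow_val, Units.val_one] at h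
  have hne : (u : F) - 1 ≠ 0 := by
    intro e
    have e1 : u = 1 := Units.ext (sub_eq_zero.1 e)
    rw [e1, orderOf_one] at hu
    norm_num at hu
  refine ⟨u, (mul_eq_zero.1 (?_ : ((u : F) - 1) * ((u : F) ^ 2 + u + 1) = 0)).resolve_left hne⟩
  linear_combination h

theorem exists_hom_Q8 {n : ℕ} (hn : Fintype.card F = 2 ^ n) (h7 : 7 ∣ Fintype.card F - 1) :
    Nonempty (Q8 →+* F) := by
  have h2 := two_eq_zero hn
  obtain ⟨r, hr⟩ := exists_root3 hn h7
  have : CharP F 2 := CharTwo.of_one_ne_zero_of_two_eq_zero one_ne_zero h2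
  let c : ZMod 2 →+* F := ZMod.castHom (dvd_refl 2) F
  refine ⟨{ toFun := fun q => c q.a + c q.b * r + c q.c * r ^ 2
            map_one' := ?_
            map_mul' := ?_
            map_zero' := ?_
            map_add' := ?_ }⟩
  · simp
  · intro x y
    simp only [Q8.mul_def, map_add, map_mul]
    linear_combination (-(c x.b * c y.c + c x.c * c y.b + c x.c * c y.c * r)) * hr +
      (c x.b * c y.c + c x.c * c y.b) * (1 + r) * h2 + c x.c * c y.c * (r + r ^ 2) * h2
  · simp
  · intro x y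
    simp only [Q8.add_def, map_add]
    ring

theorem exists_hom_Q64 (hn : Fintype.card F = 64) : Nonempty (Q64 →+* F) := by
  obtain ⟨f⟩ := exists_hom_Q8 (F := F) (n := 6) (by rw [hn]; norm_num) (by rw [hn]; norm_num)
  obtain ⟨w, hw⟩ := exists_root2 (F := F) (n := 6) (by rw [hn]; norm_num) (by rw [hn]; norm_num)
  refine ⟨{ toFun := fun q => f q.re + f q.im * w
            map_one' := ?_
            map_mul' := ?_
            map_zero' := ?_
            map_add' := ?_ }⟩
  · show f 1 + f 0 * w = 1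
    simp only [map_one, map_zero, zero_mul, add_zero]
  · intro x y
    simp only [Q64.mul_def, map_add, map_sub, map_mul]
    linear_combination (-(f x.im * f y.im)) * hw
  · show f 0 + f 0 * w = 0
    simp only [map_zero, zero_mul, add_zero]
  · intro x y
    simp only [Q64.add_def, map_add]
    ring

end CfsgLib.E7Sixtyfive
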