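/-
Elements of order 65 in five classical groups over the fields with 8 and 64 elements.
-/
import Cfsg.Agent.Lib.E7Sixtyfive.Fields
import Cfsg.Prelude.Def_Classical

set_option autoImplicit false
set_option maxRecDepth 100000

namespace CfsgLib.E7Sixtyfive

open Matrix

/-- Powers of a matrix of order 65 and a matrix not commuting with them. -/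
structure Wit (n : ℕ) (R : Type) [CommRing R] where
  m1 : Matrix (Fin n) (Fin n) R
  m2 : Matrix (Fin n) (Fin n) R
  m4 : Matrix (Fin n) (Fin n) R
  m5 : Matrix (Fin n) (Fin n) R
  m8 : Matrix (Fin n) (Fin n) R
  m13 : Matrix (Fin n) (Fin n) R
  m16 : Matrix (Fin n) (Fin n) R
  m32 : Matrix (Fin n) (Fin n) R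
  m64 : Matrix (Fin n) (Fin n) R
  mB : Matrix (Fin n) (Fin n) R
  h2 : m2 = m1 * m1
  h4 : m4 = m2 * m2
  h5 : m5 = m4 * m1
  h8 : m8 = m4 * m4
  h13 : m13 = m8 * m5
  h16 : m16 = m8 * m8
  h32 : m32 = m16 * m16
  h64 : m64 = m32 * m32
  h65 : m64 * m1 = 1
  n5 : m5 * mB ≠ mB * m5
  n13 : m13 * mB ≠ mB * m13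

theorem Wit.pow65 {n : ℕ} {R : Type} [CommRing R] (W : Wit n R) :
    W.m5 = W.m1 ^ 5 ∧ W.m13 = W.m1 ^ 13 ∧ W.m1 ^ 65 = 1 := by
  refine ⟨?_, ?_, ?_⟩
  · rw [W.h5, W.h4, W.h2]; simp only [pow_succ, pow_zero, one_mul, mul_assoc]
  · rw [W.h13, W.h8, W.h5, W.h4, W.h2]; simp only [pow_succ, pow_zero, one_mul, mul_assoc]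
  · refine Eq.trans ?_ W.h65
    rw [W.h64, W.h32, W.h16, W.h8, W.h4, W.h2]
    have e : ∀ a : Matrix (Fin n) (Fin n) R, a * a = a ^ 2 := fun a => (sq a).symm
    simp only [e, ← pow_mul, ← pow_succ]

/-- An element of order 65 in the quotient by the centre. -/
theorem exists_65 {n : ℕ} {R : Type} [CommRing R] (W : Wit n R) {G M : Type*} [Group G] [Monoid M]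
    (ι : G →* M) (hι : Function.Injective ι) (e : Matrix (Fin n) (Fin n) R →* M) (he : Function.Injective e)
    {a b : G} (ha : ι a = e W.m1) (hb : ι b = e W.mB) :
    ∃ g : G ⧸ Subgroup.center G, orderOf g = 65 := by
  obtain ⟨p5, p13, p65⟩ := W.pow65
  have h65 : a ^ 65 = 1 := hι (by rw [map_pow, ha, ← map_pow, p65, map_one, map_one])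
  have nc : ∀ k, W.m1 ^ k * W.mB ≠ W.mB * W.m1 ^ k → (QuotientGroup.mk a : G ⧸ Subgroup.center G) ^ k ≠ 1 := by
    intro k hk h
    rw [← QuotientGroup.mk_pow, QuotientGroup.eq_one_iff] at h
    have h1 := congrArg ι (Subgroup.mem_center_iff.1 h b)
    rw [ι.map_mul, ι.map_mul, ι.map_pow, ha, hb, ← e.map_pow, ← e.map_mul, ← e.map_mul] at h1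
    exact hk (he h1).symm
  refine ⟨QuotientGroup.mk a, ?_⟩
  have hd : orderOf (QuotientGroup.mk a : G ⧸ Subgroup.center G) ∣ 65 := by
    refine orderOf_dvd_of_pow_eq_one ?_
    rw [← QuotientGroup.mk_pow, h65, QuotientGroup.mk_one]
  have h5 := nc 5 (p5 ▸ W.n5)
  have h13 := nc 13 (p13 ▸ W.n13)
  have hmem : orderOf (QuotientGroup.mk a : G ⧸ Subgroup.center G) ∈ Nat.divisors 65 :=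
    Nat.mem_divisors.2 ⟨hd, by norm_num⟩
  rw [show Nat.divisors 65 = {1, 5, 13, 65} by decide +kernel] at hmem
  simp only [Finset.mem_insert, Finset.mem_singleton] at hmem
  rcases hmem with h | h | h | h
  · exact absurd (by rw [orderOf_eq_one_iff.1 h, one_pow]) h5
  · exact absurd (h ▸ pow_orderOf_eq_one _) h5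
  · exact absurd (h ▸ pow_orderOf_eq_one _) h13
  · exact h

/-- The witness of order 65 in dimension 2. -/
def twoWit : Wit 2 Q64 where
  m1 := !![⟨⟨0, 0, 0⟩, ⟨0, 1, 0⟩⟩, ⟨⟨1, 0, 0⟩, ⟨0, 0, 0⟩⟩;
    ⟨⟨1, 0, 0⟩, ⟨0, 0, 0⟩⟩, ⟨⟨0, 0, 0⟩, ⟨0, 0, 0⟩⟩]
  m2 := !![⟨⟨1, 0, 1⟩, ⟨0, 0, 1⟩⟩, ⟨⟨0, 0, 0⟩, ⟨0, 1, 0⟩⟩;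
    ⟨⟨0, 0, 0⟩, ⟨0, 1, 0⟩⟩, ⟨⟨1, 0, 0⟩, ⟨0, 0, 0⟩⟩]
  m4 := !![⟨⟨1, 0, 1⟩, ⟨0, 1, 0⟩⟩, ⟨⟨1, 1, 0⟩, ⟨0, 0, 0⟩⟩;
    ⟨⟨1, 1, 0⟩, ⟨0, 0, 0⟩⟩, ⟨⟨1, 0, 1⟩, ⟨0, 0, 1⟩⟩]
  m5 := !![⟨⟨1, 1, 1⟩, ⟨1, 0, 1⟩⟩, ⟨⟨1, 0, 1⟩, ⟨0, 1, 0⟩⟩;
    ⟨⟨1, 0, 1⟩, ⟨0, 1, 0⟩⟩, ⟨⟨1, 1, 0⟩, ⟨0, 0, 0⟩⟩]
  m8 := !![⟨⟨0, 1, 1⟩, ⟨0, 0, 1⟩⟩, ⟨⟨0, 0, 0⟩, ⟨1, 0, 0⟩⟩;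
    ⟨⟨0, 0, 0⟩, ⟨1, 0, 0⟩⟩, ⟨⟨0, 0, 1⟩, ⟨0, 1, 1⟩⟩]
  m13 := !![⟨⟨0, 0, 1⟩, ⟨1, 1, 1⟩⟩, ⟨⟨0, 0, 0⟩, ⟨1, 0, 1⟩⟩;
    ⟨⟨0, 0, 0⟩, ⟨1, 0, 1⟩⟩, ⟨⟨1, 0, 1⟩, ⟨0, 1, 1⟩⟩]
  m16 := !![⟨⟨1, 0, 1⟩, ⟨1, 1, 1⟩⟩, ⟨⟨0, 1, 0⟩, ⟨0, 0, 0⟩⟩;
    ⟨⟨0, 1, 0⟩, ⟨0, 0, 0⟩⟩, ⟨⟨1, 0, 1⟩, ⟨1, 1, 0⟩⟩]
  m32 := !![⟨⟨0, 0, 0⟩, ⟨1, 1, 0⟩⟩, ⟨⟨0, 0, 0⟩, ⟨1, 1, 0⟩⟩;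
    ⟨⟨0, 0, 0⟩, ⟨1, 1, 0⟩⟩, ⟨⟨0, 1, 1⟩, ⟨1, 0, 1⟩⟩]
  m64 := !![⟨⟨0, 0, 0⟩, ⟨0, 0, 0⟩⟩, ⟨⟨1, 0, 0⟩, ⟨0, 0, 0⟩⟩;
    ⟨⟨1, 0, 0⟩, ⟨0, 0, 0⟩⟩, ⟨⟨0, 0, 0⟩, ⟨0, 1, 0⟩⟩]
  mB := !![⟨⟨1, 0, 0⟩, ⟨0, 0, 0⟩⟩, ⟨⟨1, 0, 0⟩, ⟨0, 0, 0⟩⟩;
    ⟨⟨0, 0, 0⟩, ⟨0, 0, 0⟩⟩, ⟨⟨1, 0, 0⟩, ⟨0, 0, 0⟩⟩]
  h2 := by decide +kernel
  h4 := by decide +kernel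
  h5 := by decide +kernel
  h8 := by decide +kernel
  h13 := by decide +kernel
  h16 := by decide +kernel
  h32 := by decide +kernel
  h64 := by decide +kernel
  h65 := by decide +kernel
  n5 := by decide +kernel
  n13 := by decide +kernel

/-- The witness of order 65 in dimension 4. -/
def fourWit : Wit 4 Q8 where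
  m1 := !![⟨0, 0, 0⟩, ⟨0, 1, 0⟩, ⟨1, 0, 0⟩, ⟨0, 0, 0⟩;
    ⟨0, 1, 0⟩, ⟨0, 1, 0⟩, ⟨0, 0, 0⟩, ⟨1, 0, 0⟩;
    ⟨1, 0, 0⟩, ⟨0, 0, 0⟩, ⟨0, 0, 0⟩, ⟨0, 0, 0⟩;
    ⟨0, 0, 0⟩, ⟨1, 0, 0⟩, ⟨0, 0, 0⟩, ⟨0, 0, 0⟩]
  m2 := !![⟨1, 0, 1⟩, ⟨0, 0, 1⟩, ⟨0, 0, 0⟩, ⟨0, 1, 0⟩;
    ⟨0, 0, 1⟩, ⟨1, 0, 0⟩, ⟨0, 1, 0⟩, ⟨0, 1, 0⟩;
    ⟨0, 0, 0⟩, ⟨0, 1, 0⟩, ⟨1, 0, 0⟩, ⟨0, 0, 0⟩;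
    ⟨0, 1, 0⟩, ⟨0, 1, 0⟩, ⟨0, 0, 0⟩, ⟨1, 0, 0⟩]
  m4 := !![⟨1, 0, 1⟩, ⟨0, 1, 0⟩, ⟨1, 1, 0⟩, ⟨0, 0, 0⟩;
    ⟨0, 1, 0⟩, ⟨1, 1, 1⟩, ⟨0, 0, 0⟩, ⟨1, 1, 0⟩;
    ⟨1, 1, 0⟩, ⟨0, 0, 0⟩, ⟨1, 0, 1⟩, ⟨0, 0, 1⟩;
    ⟨0, 0, 0⟩, ⟨1, 1, 0⟩, ⟨0, 0, 1⟩, ⟨1, 0, 0⟩]
  m5 := !![⟨1, 1, 1⟩, ⟨1, 0, 1⟩, ⟨1, 0, 1⟩, ⟨0, 1, 0⟩;
    ⟨1, 0, 1⟩, ⟨0, 1, 0⟩, ⟨0, 1, 0⟩, ⟨1, 1, 1⟩;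
    ⟨1, 0, 1⟩, ⟨0, 1, 0⟩, ⟨1, 1, 0⟩, ⟨0, 0, 0⟩;
    ⟨0, 1, 0⟩, ⟨1, 1, 1⟩, ⟨0, 0, 0⟩, ⟨1, 1, 0⟩]
  m8 := !![⟨0, 1, 1⟩, ⟨0, 0, 1⟩, ⟨0, 0, 0⟩, ⟨1, 0, 0⟩;
    ⟨0, 0, 1⟩, ⟨0, 1, 0⟩, ⟨1, 0, 0⟩, ⟨1, 0, 0⟩;
    ⟨0, 0, 0⟩, ⟨1, 0, 0⟩, ⟨0, 0, 1⟩, ⟨0, 1, 1⟩;
    ⟨1, 0, 0⟩, ⟨1, 0, 0⟩, ⟨0, 1, 1⟩, ⟨0, 1, 0⟩]
  m13 := !![⟨0, 0, 1⟩, ⟨1, 1, 1⟩, ⟨0, 0, 0⟩, ⟨1, 0, 1⟩;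
    ⟨1, 1, 1⟩, ⟨1, 1, 0⟩, ⟨1, 0, 1⟩, ⟨1, 0, 1⟩;
    ⟨0, 0, 0⟩, ⟨1, 0, 1⟩, ⟨1, 0, 1⟩, ⟨0, 1, 1⟩;
    ⟨1, 0, 1⟩, ⟨1, 0, 1⟩, ⟨0, 1, 1⟩, ⟨1, 1, 0⟩]
  m16 := !![⟨1, 0, 1⟩, ⟨1, 1, 1⟩, ⟨0, 1, 0⟩, ⟨0, 0, 0⟩;
    ⟨1, 1, 1⟩, ⟨0, 1, 0⟩, ⟨0, 0, 0⟩, ⟨0, 1, 0⟩;
    ⟨0, 1, 0⟩, ⟨0, 0, 0⟩, ⟨1, 0, 1⟩, ⟨1, 1, 0⟩;
    ⟨0, 0, 0⟩, ⟨0, 1, 0⟩, ⟨1, 1, 0⟩, ⟨0, 1, 1⟩]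
  m32 := !![⟨0, 0, 0⟩, ⟨1, 1, 0⟩, ⟨0, 0, 0⟩, ⟨1, 1, 0⟩;
    ⟨1, 1, 0⟩, ⟨1, 1, 0⟩, ⟨1, 1, 0⟩, ⟨1, 1, 0⟩;
    ⟨0, 0, 0⟩, ⟨1, 1, 0⟩, ⟨0, 1, 1⟩, ⟨1, 0, 1⟩;
    ⟨1, 1, 0⟩, ⟨1, 1, 0⟩, ⟨1, 0, 1⟩, ⟨1, 1, 0⟩]
  m64 := !![⟨0, 0, 0⟩, ⟨0, 0, 0⟩, ⟨1, 0, 0⟩, ⟨0, 0, 0⟩;
    ⟨0, 0, 0⟩, ⟨0, 0, 0⟩, ⟨0, 0, 0⟩, ⟨1, 0, 0⟩;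
    ⟨1, 0, 0⟩, ⟨0, 0, 0⟩, ⟨0, 0, 0⟩, ⟨0, 1, 0⟩;
    ⟨0, 0, 0⟩, ⟨1, 0, 0⟩, ⟨0, 1, 0⟩, ⟨0, 1, 0⟩]
  mB := !![⟨1, 0, 0⟩, ⟨0, 0, 0⟩, ⟨0, 0, 0⟩, ⟨0, 0, 0⟩;
    ⟨0, 0, 0⟩, ⟨1, 0, 0⟩, ⟨0, 0, 0⟩, ⟨0, 0, 0⟩;
    ⟨1, 0, 0⟩, ⟨0, 0, 0⟩, ⟨1, 0, 0⟩, ⟨0, 0, 0⟩;
    ⟨0, 0, 0⟩, ⟨0, 0, 0⟩, ⟨0, 0, 0⟩, ⟨1, 0, 0⟩]
  h2 := by decide +kernel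
  h4 := by decide +kernel
  h5 := by decide +kernel
  h8 := by decide +kernel
  h13 := by decide +kernel
  h16 := by decide +kernel
  h32 := by decide +kernel
  h64 := by decide +kernel
  h65 := by decide +kernel
  n5 := by decide +kernel
  n13 := by decide +kernel

/-- The witness of order 65 in dimension 6. -/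
def sixWit : Wit 6 Q8 where
  m1 := !![⟨0, 0, 0⟩, ⟨0, 1, 0⟩, ⟨0, 0, 0⟩, ⟨1, 0, 0⟩, ⟨0, 0, 0⟩, ⟨0, 0, 0⟩;
    ⟨0, 1, 0⟩, ⟨0, 1, 0⟩, ⟨0, 0, 0⟩, ⟨0, 0, 0⟩, ⟨1, 0, 0⟩, ⟨0, 0, 0⟩;
    ⟨0, 0, 0⟩, ⟨0, 0, 0⟩, ⟨1, 0, 0⟩, ⟨0, 0, 0⟩, ⟨0, 0, 0⟩, ⟨0, 0, 0⟩;
    ⟨1, 0, 0⟩, ⟨0, 0, 0⟩, ⟨0, 0, 0⟩, ⟨0, 0, 0⟩, ⟨0, 0, 0⟩, ⟨0, 0, 0⟩;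
    ⟨0, 0, 0⟩, ⟨1, 0, 0⟩, ⟨0, 0, 0⟩, ⟨0, 0, 0⟩, ⟨0, 0, 0⟩, ⟨0, 0, 0⟩;
    ⟨0, 0, 0⟩, ⟨0, 0, 0⟩, ⟨0, 0, 0⟩, ⟨0, 0, 0⟩, ⟨0, 0, 0⟩, ⟨1, 0, 0⟩]
  m2 := !![⟨1, 0, 1⟩, ⟨0, 0, 1⟩, ⟨0, 0, 0⟩, ⟨0, 0, 0⟩, ⟨0, 1, 0⟩, ⟨0, 0, 0⟩;
    ⟨0, 0, 1⟩, ⟨1, 0, 0⟩, ⟨0, 0, 0⟩, ⟨0, 1, 0⟩, ⟨0, 1, 0⟩, ⟨0, 0, 0⟩;
    ⟨0, 0, 0⟩, ⟨0, 0, 0⟩, ⟨1, 0, 0⟩, ⟨0, 0, 0⟩, ⟨0, 0, 0⟩, ⟨0, 0, 0⟩;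
    ⟨0, 0, 0⟩, ⟨0, 1, 0⟩, ⟨0, 0, 0⟩, ⟨1, 0, 0⟩, ⟨0, 0, 0⟩, ⟨0, 0, 0⟩;
    ⟨0, 1, 0⟩, ⟨0, 1, 0⟩, ⟨0, 0, 0⟩, ⟨0, 0, 0⟩, ⟨1, 0, 0⟩, ⟨0, 0, 0⟩;
    ⟨0, 0, 0⟩, ⟨0, 0, 0⟩, ⟨0, 0, 0⟩, ⟨0, 0, 0⟩, ⟨0, 0, 0⟩, ⟨1, 0, 0⟩]
  m4 := !![⟨1, 0, 1⟩, ⟨0, 1, 0⟩, ⟨0, 0, 0⟩, ⟨1, 1, 0⟩, ⟨0, 0, 0⟩, ⟨0, 0, 0⟩;
    ⟨0, 1, 0⟩, ⟨1, 1, 1⟩, ⟨0, 0, 0⟩, ⟨0, 0, 0⟩, ⟨1, 1, 0⟩, ⟨0, 0, 0⟩;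
    ⟨0, 0, 0⟩, ⟨0, 0, 0⟩, ⟨1, 0, 0⟩, ⟨0, 0, 0⟩, ⟨0, 0, 0⟩, ⟨0, 0, 0⟩;
    ⟨1, 1, 0⟩, ⟨0, 0, 0⟩, ⟨0, 0, 0⟩, ⟨1, 0, 1⟩, ⟨0, 0, 1⟩, ⟨0, 0, 0⟩;
    ⟨0, 0, 0⟩, ⟨1, 1, 0⟩, ⟨0, 0, 0⟩, ⟨0, 0, 1⟩, ⟨1, 0, 0⟩, ⟨0, 0, 0⟩;
    ⟨0, 0, 0⟩, ⟨0, 0, 0⟩, ⟨0, 0, 0⟩, ⟨0, 0, 0⟩, ⟨0, 0, 0⟩, ⟨1, 0, 0⟩]
  m5 := !![⟨1, 1, 1⟩, ⟨1, 0, 1⟩, ⟨0, 0, 0⟩, ⟨1, 0, 1⟩, ⟨0, 1, 0⟩, ⟨0, 0, 0⟩;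
    ⟨1, 0, 1⟩, ⟨0, 1, 0⟩, ⟨0, 0, 0⟩, ⟨0, 1, 0⟩, ⟨1, 1, 1⟩, ⟨0, 0, 0⟩;
    ⟨0, 0, 0⟩, ⟨0, 0, 0⟩, ⟨1, 0, 0⟩, ⟨0, 0, 0⟩, ⟨0, 0, 0⟩, ⟨0, 0, 0⟩;
    ⟨1, 0, 1⟩, ⟨0, 1, 0⟩, ⟨0, 0, 0⟩, ⟨1, 1, 0⟩, ⟨0, 0, 0⟩, ⟨0, 0, 0⟩;
    ⟨0, 1, 0⟩, ⟨1, 1, 1⟩, ⟨0, 0, 0⟩, ⟨0, 0, 0⟩, ⟨1, 1, 0⟩, ⟨0, 0, 0⟩;
    ⟨0, 0, 0⟩, ⟨0, 0, 0⟩, ⟨0, 0, 0⟩, ⟨0, 0, 0⟩, ⟨0, 0, 0⟩, ⟨1, 0, 0⟩]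
  m8 := !![⟨0, 1, 1⟩, ⟨0, 0, 1⟩, ⟨0, 0, 0⟩, ⟨0, 0, 0⟩, ⟨1, 0, 0⟩, ⟨0, 0, 0⟩;
    ⟨0, 0, 1⟩, ⟨0, 1, 0⟩, ⟨0, 0, 0⟩, ⟨1, 0, 0⟩, ⟨1, 0, 0⟩, ⟨0, 0, 0⟩;
    ⟨0, 0, 0⟩, ⟨0, 0, 0⟩, ⟨1, 0, 0⟩, ⟨0, 0, 0⟩, ⟨0, 0, 0⟩, ⟨0, 0, 0⟩;
    ⟨0, 0, 0⟩, ⟨1, 0, 0⟩, ⟨0, 0, 0⟩, ⟨0, 0, 1⟩, ⟨0, 1, 1⟩, ⟨0, 0, 0⟩;
    ⟨1, 0, 0⟩, ⟨1, 0, 0⟩, ⟨0, 0, 0⟩, ⟨0, 1, 1⟩, ⟨0, 1, 0⟩, ⟨0, 0, 0⟩;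
    ⟨0, 0, 0⟩, ⟨0, 0, 0⟩, ⟨0, 0, 0⟩, ⟨0, 0, 0⟩, ⟨0, 0, 0⟩, ⟨1, 0, 0⟩]
  m13 := !![⟨0, 0, 1⟩, ⟨1, 1, 1⟩, ⟨0, 0, 0⟩, ⟨0, 0, 0⟩, ⟨1, 0, 1⟩, ⟨0, 0, 0⟩;
    ⟨1, 1, 1⟩, ⟨1, 1, 0⟩, ⟨0, 0, 0⟩, ⟨1, 0, 1⟩, ⟨1, 0, 1⟩, ⟨0, 0, 0⟩;
    ⟨0, 0, 0⟩, ⟨0, 0, 0⟩, ⟨1, 0, 0⟩, ⟨0, 0, 0⟩, ⟨0, 0, 0⟩, ⟨0, 0, 0⟩;
    ⟨0, 0, 0⟩, ⟨1, 0, 1⟩, ⟨0, 0, 0⟩, ⟨1, 0, 1⟩, ⟨0, 1, 1⟩, ⟨0, 0, 0⟩;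
    ⟨1, 0, 1⟩, ⟨1, 0, 1⟩, ⟨0, 0, 0⟩, ⟨0, 1, 1⟩, ⟨1, 1, 0⟩, ⟨0, 0, 0⟩;
    ⟨0, 0, 0⟩, ⟨0, 0, 0⟩, ⟨0, 0, 0⟩, ⟨0, 0, 0⟩, ⟨0, 0, 0⟩, ⟨1, 0, 0⟩]
  m16 := !![⟨1, 0, 1⟩, ⟨1, 1, 1⟩, ⟨0, 0, 0⟩, ⟨0, 1, 0⟩, ⟨0, 0, 0⟩, ⟨0, 0, 0⟩;
    ⟨1, 1, 1⟩, ⟨0, 1, 0⟩, ⟨0, 0, 0⟩, ⟨0, 0, 0⟩, ⟨0, 1, 0⟩, ⟨0, 0, 0⟩;
    ⟨0, 0, 0⟩, ⟨0, 0, 0⟩, ⟨1, 0, 0⟩, ⟨0, 0, 0⟩, ⟨0, 0, 0⟩, ⟨0, 0, 0⟩;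
    ⟨0, 1, 0⟩, ⟨0, 0, 0⟩, ⟨0, 0, 0⟩, ⟨1, 0, 1⟩, ⟨1, 1, 0⟩, ⟨0, 0, 0⟩;
    ⟨0, 0, 0⟩, ⟨0, 1, 0⟩, ⟨0, 0, 0⟩, ⟨1, 1, 0⟩, ⟨0, 1, 1⟩, ⟨0, 0, 0⟩;
    ⟨0, 0, 0⟩, ⟨0, 0, 0⟩, ⟨0, 0, 0⟩, ⟨0, 0, 0⟩, ⟨0, 0, 0⟩, ⟨1, 0, 0⟩]
  m32 := !![⟨0, 0, 0⟩, ⟨1, 1, 0⟩, ⟨0, 0, 0⟩, ⟨0, 0, 0⟩, ⟨1, 1, 0⟩, ⟨0, 0, 0⟩;
    ⟨1, 1, 0⟩, ⟨1, 1, 0⟩, ⟨0, 0, 0⟩, ⟨1, 1, 0⟩, ⟨1, 1, 0⟩, ⟨0, 0, 0⟩;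
    ⟨0, 0, 0⟩, ⟨0, 0, 0⟩, ⟨1, 0, 0⟩, ⟨0, 0, 0⟩, ⟨0, 0, 0⟩, ⟨0, 0, 0⟩;
    ⟨0, 0, 0⟩, ⟨1, 1, 0⟩, ⟨0, 0, 0⟩, ⟨0, 1, 1⟩, ⟨1, 0, 1⟩, ⟨0, 0, 0⟩;
    ⟨1, 1, 0⟩, ⟨1, 1, 0⟩, ⟨0, 0, 0⟩, ⟨1, 0, 1⟩, ⟨1, 1, 0⟩, ⟨0, 0, 0⟩;
    ⟨0, 0, 0⟩, ⟨0, 0, 0⟩, ⟨0, 0, 0⟩, ⟨0, 0, 0⟩, ⟨0, 0, 0⟩, ⟨1, 0, 0⟩]
  m64 := !![⟨0, 0, 0⟩, ⟨0, 0, 0⟩, ⟨0, 0, 0⟩, ⟨1, 0, 0⟩, ⟨0, 0, 0⟩, ⟨0, 0, 0⟩;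
    ⟨0, 0, 0⟩, ⟨0, 0, 0⟩, ⟨0, 0, 0⟩, ⟨0, 0, 0⟩, ⟨1, 0, 0⟩, ⟨0, 0, 0⟩;
    ⟨0, 0, 0⟩, ⟨0, 0, 0⟩, ⟨1, 0, 0⟩, ⟨0, 0, 0⟩, ⟨0, 0, 0⟩, ⟨0, 0, 0⟩;
    ⟨1, 0, 0⟩, ⟨0, 0, 0⟩, ⟨0, 0, 0⟩, ⟨0, 0, 0⟩, ⟨0, 1, 0⟩, ⟨0, 0, 0⟩;
    ⟨0, 0, 0⟩, ⟨1, 0, 0⟩, ⟨0, 0, 0⟩, ⟨0, 1, 0⟩, ⟨0, 1, 0⟩, ⟨0, 0, 0⟩;
    ⟨0, 0, 0⟩, ⟨0, 0, 0⟩, ⟨0, 0, 0⟩, ⟨0, 0, 0⟩, ⟨0, 0, 0⟩, ⟨1, 0, 0⟩]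
  mB := !![⟨1, 0, 0⟩, ⟨0, 0, 0⟩, ⟨0, 0, 0⟩, ⟨0, 0, 0⟩, ⟨0, 0, 0⟩, ⟨0, 0, 0⟩;
    ⟨0, 0, 0⟩, ⟨1, 0, 0⟩, ⟨0, 0, 0⟩, ⟨0, 0, 0⟩, ⟨0, 0, 0⟩, ⟨0, 0, 0⟩;
    ⟨0, 0, 0⟩, ⟨0, 0, 0⟩, ⟨1, 0, 0⟩, ⟨0, 0, 0⟩, ⟨0, 0, 0⟩, ⟨0, 0, 0⟩;
    ⟨1, 0, 0⟩, ⟨0, 0, 0⟩, ⟨0, 0, 0⟩, ⟨1, 0, 0⟩, ⟨0, 0, 0⟩, ⟨0, 0, 0⟩;
    ⟨0, 0, 0⟩, ⟨0, 0, 0⟩, ⟨0, 0, 0⟩, ⟨0, 0, 0⟩, ⟨1, 0, 0⟩, ⟨0, 0, 0⟩;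
    ⟨0, 0, 0⟩, ⟨0, 0, 0⟩, ⟨0, 0, 0⟩, ⟨0, 0, 0⟩, ⟨0, 0, 0⟩, ⟨1, 0, 0⟩]
  h2 := by decide +kernel
  h4 := by decide +kernel
  h5 := by decide +kernel
  h8 := by decide +kernel
  h13 := by decide +kernel
  h16 := by decide +kernel
  h32 := by decide +kernel
  h64 := by decide +kernel
  h65 := by decide +kernel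
  n5 := by decide +kernel
  n13 := by decide +kernel

/-- The witness of order 65 in dimension 4. -/
def hermWit : Wit 4 Q64 where
  m1 := !![⟨⟨0, 0, 0⟩, ⟨0, 0, 0⟩⟩, ⟨⟨0, 0, 0⟩, ⟨1, 0, 0⟩⟩, ⟨⟨0, 1, 0⟩, ⟨0, 1, 0⟩⟩, ⟨⟨0, 0, 0⟩, ⟨0, 1, 0⟩⟩;
    ⟨⟨1, 0, 0⟩, ⟨1, 0, 0⟩⟩, ⟨⟨0, 0, 0⟩, ⟨0, 0, 0⟩⟩, ⟨⟨0, 1, 0⟩, ⟨0, 1, 0⟩⟩, ⟨⟨0, 0, 0⟩, ⟨0, 1, 0⟩⟩;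
    ⟨⟨0, 1, 0⟩, ⟨0, 1, 0⟩⟩, ⟨⟨0, 0, 0⟩, ⟨0, 1, 0⟩⟩, ⟨⟨0, 1, 0⟩, ⟨0, 1, 0⟩⟩, ⟨⟨0, 0, 0⟩, ⟨1, 1, 0⟩⟩;
    ⟨⟨0, 1, 0⟩, ⟨0, 1, 0⟩⟩, ⟨⟨0, 0, 0⟩, ⟨0, 1, 0⟩⟩, ⟨⟨1, 1, 0⟩, ⟨1, 1, 0⟩⟩, ⟨⟨0, 0, 0⟩, ⟨0, 1, 0⟩⟩]
  m2 := !![⟨⟨1, 0, 1⟩, ⟨0, 0, 1⟩⟩, ⟨⟨0, 0, 0⟩, ⟨0, 0, 1⟩⟩, ⟨⟨0, 0, 1⟩, ⟨0, 0, 1⟩⟩, ⟨⟨0, 0, 0⟩, ⟨0, 1, 1⟩⟩;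
    ⟨⟨0, 0, 1⟩, ⟨0, 0, 1⟩⟩, ⟨⟨1, 0, 0⟩, ⟨0, 0, 1⟩⟩, ⟨⟨0, 1, 1⟩, ⟨0, 1, 1⟩⟩, ⟨⟨0, 0, 0⟩, ⟨0, 0, 1⟩⟩;
    ⟨⟨0, 0, 1⟩, ⟨0, 0, 1⟩⟩, ⟨⟨0, 0, 0⟩, ⟨0, 1, 1⟩⟩, ⟨⟨1, 0, 0⟩, ⟨0, 0, 0⟩⟩, ⟨⟨0, 0, 0⟩, ⟨0, 1, 0⟩⟩;
    ⟨⟨0, 1, 1⟩, ⟨0, 1, 1⟩⟩, ⟨⟨0, 0, 0⟩, ⟨0, 0, 1⟩⟩, ⟨⟨0, 1, 0⟩, ⟨0, 1, 0⟩⟩, ⟨⟨1, 0, 0⟩, ⟨0, 0, 0⟩⟩]
  m4 := !![⟨⟨1, 0, 1⟩, ⟨0, 0, 0⟩⟩, ⟨⟨0, 0, 0⟩, ⟨1, 1, 0⟩⟩, ⟨⟨0, 1, 0⟩, ⟨0, 1, 1⟩⟩, ⟨⟨0, 0, 0⟩, ⟨0, 1, 1⟩⟩;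
    ⟨⟨1, 1, 0⟩, ⟨1, 1, 0⟩⟩, ⟨⟨1, 0, 1⟩, ⟨0, 0, 0⟩⟩, ⟨⟨0, 1, 1⟩, ⟨0, 1, 1⟩⟩, ⟨⟨0, 0, 1⟩, ⟨0, 1, 1⟩⟩;
    ⟨⟨0, 1, 0⟩, ⟨0, 1, 1⟩⟩, ⟨⟨0, 0, 0⟩, ⟨0, 1, 1⟩⟩, ⟨⟨1, 1, 1⟩, ⟨0, 1, 1⟩⟩, ⟨⟨0, 0, 0⟩, ⟨1, 0, 1⟩⟩;
    ⟨⟨0, 1, 1⟩, ⟨0, 1, 1⟩⟩, ⟨⟨0, 0, 1⟩, ⟨0, 1, 1⟩⟩, ⟨⟨1, 0, 1⟩, ⟨1, 0, 1⟩⟩, ⟨⟨1, 0, 0⟩, ⟨0, 1, 1⟩⟩]
  m5 := !![⟨⟨1, 1, 1⟩, ⟨0, 0, 1⟩⟩, ⟨⟨0, 0, 0⟩, ⟨1, 0, 0⟩⟩, ⟨⟨1, 0, 1⟩, ⟨1, 0, 1⟩⟩, ⟨⟨0, 0, 0⟩, ⟨1, 1, 1⟩⟩;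
    ⟨⟨1, 0, 0⟩, ⟨1, 0, 0⟩⟩, ⟨⟨1, 1, 0⟩, ⟨0, 0, 1⟩⟩, ⟨⟨1, 1, 1⟩, ⟨1, 1, 1⟩⟩, ⟨⟨0, 0, 0⟩, ⟨1, 0, 1⟩⟩;
    ⟨⟨1, 0, 1⟩, ⟨1, 0, 1⟩⟩, ⟨⟨0, 0, 0⟩, ⟨1, 1, 1⟩⟩, ⟨⟨0, 1, 0⟩, ⟨1, 0, 0⟩⟩, ⟨⟨0, 0, 0⟩, ⟨0, 1, 1⟩⟩;
    ⟨⟨1, 1, 1⟩, ⟨1, 1, 1⟩⟩, ⟨⟨0, 0, 0⟩, ⟨1, 0, 1⟩⟩, ⟨⟨0, 1, 1⟩, ⟨0, 1, 1⟩⟩, ⟨⟨1, 1, 0⟩, ⟨1, 0, 0⟩⟩]
  m8 := !![⟨⟨0, 1, 1⟩, ⟨0, 1, 0⟩⟩, ⟨⟨0, 0, 0⟩, ⟨0, 1, 0⟩⟩, ⟨⟨0, 0, 1⟩, ⟨0, 1, 0⟩⟩, ⟨⟨0, 0, 0⟩, ⟨1, 1, 0⟩⟩;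
    ⟨⟨0, 1, 0⟩, ⟨0, 1, 0⟩⟩, ⟨⟨0, 0, 1⟩, ⟨0, 1, 0⟩⟩, ⟨⟨1, 1, 0⟩, ⟨1, 1, 0⟩⟩, ⟨⟨0, 1, 1⟩, ⟨0, 1, 0⟩⟩;
    ⟨⟨0, 0, 1⟩, ⟨0, 1, 0⟩⟩, ⟨⟨0, 0, 0⟩, ⟨1, 1, 0⟩⟩, ⟨⟨0, 1, 0⟩, ⟨0, 0, 0⟩⟩, ⟨⟨0, 0, 0⟩, ⟨1, 0, 0⟩⟩;
    ⟨⟨1, 1, 0⟩, ⟨1, 1, 0⟩⟩, ⟨⟨0, 1, 1⟩, ⟨0, 1, 0⟩⟩, ⟨⟨1, 0, 0⟩, ⟨1, 0, 0⟩⟩, ⟨⟨0, 1, 0⟩, ⟨0, 0, 0⟩⟩]
  m13 := !![⟨⟨0, 0, 1⟩, ⟨1, 0, 0⟩⟩, ⟨⟨0, 0, 0⟩, ⟨1, 0, 0⟩⟩, ⟨⟨1, 1, 1⟩, ⟨1, 0, 0⟩⟩, ⟨⟨0, 0, 0⟩, ⟨0, 0, 1⟩⟩;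
    ⟨⟨1, 0, 0⟩, ⟨1, 0, 0⟩⟩, ⟨⟨1, 0, 1⟩, ⟨1, 0, 0⟩⟩, ⟨⟨0, 0, 1⟩, ⟨0, 0, 1⟩⟩, ⟨⟨0, 1, 1⟩, ⟨1, 0, 0⟩⟩;
    ⟨⟨1, 1, 1⟩, ⟨1, 0, 0⟩⟩, ⟨⟨0, 0, 0⟩, ⟨0, 0, 1⟩⟩, ⟨⟨1, 1, 0⟩, ⟨0, 0, 0⟩⟩, ⟨⟨0, 0, 0⟩, ⟨1, 0, 1⟩⟩;
    ⟨⟨0, 0, 1⟩, ⟨0, 0, 1⟩⟩, ⟨⟨0, 1, 1⟩, ⟨1, 0, 0⟩⟩, ⟨⟨1, 0, 1⟩, ⟨1, 0, 1⟩⟩, ⟨⟨1, 1, 0⟩, ⟨0, 0, 0⟩⟩]
  m16 := !![⟨⟨1, 0, 1⟩, ⟨0, 0, 0⟩⟩, ⟨⟨0, 0, 0⟩, ⟨0, 1, 0⟩⟩, ⟨⟨1, 1, 1⟩, ⟨0, 0, 1⟩⟩, ⟨⟨0, 0, 0⟩, ⟨0, 0, 1⟩⟩;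
    ⟨⟨0, 1, 0⟩, ⟨0, 1, 0⟩⟩, ⟨⟨1, 0, 1⟩, ⟨0, 0, 0⟩⟩, ⟨⟨0, 0, 1⟩, ⟨0, 0, 1⟩⟩, ⟨⟨1, 1, 0⟩, ⟨0, 0, 1⟩⟩;
    ⟨⟨1, 1, 1⟩, ⟨0, 0, 1⟩⟩, ⟨⟨0, 0, 0⟩, ⟨0, 0, 1⟩⟩, ⟨⟨0, 1, 0⟩, ⟨0, 0, 1⟩⟩, ⟨⟨0, 0, 0⟩, ⟨0, 1, 1⟩⟩;
    ⟨⟨0, 0, 1⟩, ⟨0, 0, 1⟩⟩, ⟨⟨1, 1, 0⟩, ⟨0, 0, 1⟩⟩, ⟨⟨0, 1, 1⟩, ⟨0, 1, 1⟩⟩, ⟨⟨0, 1, 1⟩, ⟨0, 0, 1⟩⟩]
  m32 := !![⟨⟨0, 0, 0⟩, ⟨0, 1, 1⟩⟩, ⟨⟨0, 0, 0⟩, ⟨0, 1, 1⟩⟩, ⟨⟨1, 1, 0⟩, ⟨0, 1, 1⟩⟩, ⟨⟨0, 0, 0⟩, ⟨1, 0, 1⟩⟩;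
    ⟨⟨0, 1, 1⟩, ⟨0, 1, 1⟩⟩, ⟨⟨0, 1, 1⟩, ⟨0, 1, 1⟩⟩, ⟨⟨1, 0, 1⟩, ⟨1, 0, 1⟩⟩, ⟨⟨1, 0, 1⟩, ⟨0, 1, 1⟩⟩;
    ⟨⟨1, 1, 0⟩, ⟨0, 1, 1⟩⟩, ⟨⟨0, 0, 0⟩, ⟨1, 0, 1⟩⟩, ⟨⟨1, 1, 0⟩, ⟨0, 0, 0⟩⟩, ⟨⟨0, 0, 0⟩, ⟨1, 1, 0⟩⟩;
    ⟨⟨1, 0, 1⟩, ⟨1, 0, 1⟩⟩, ⟨⟨1, 0, 1⟩, ⟨0, 1, 1⟩⟩, ⟨⟨1, 1, 0⟩, ⟨1, 1, 0⟩⟩, ⟨⟨1, 1, 0⟩, ⟨0, 0, 0⟩⟩]
  m64 := !![⟨⟨0, 0, 0⟩, ⟨0, 0, 0⟩⟩, ⟨⟨0, 0, 0⟩, ⟨1, 0, 0⟩⟩, ⟨⟨0, 0, 0⟩, ⟨0, 1, 0⟩⟩, ⟨⟨0, 0, 0⟩, ⟨0, 1, 0⟩⟩;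
    ⟨⟨1, 0, 0⟩, ⟨1, 0, 0⟩⟩, ⟨⟨0, 0, 0⟩, ⟨0, 0, 0⟩⟩, ⟨⟨0, 1, 0⟩, ⟨0, 1, 0⟩⟩, ⟨⟨0, 1, 0⟩, ⟨0, 1, 0⟩⟩;
    ⟨⟨0, 0, 0⟩, ⟨0, 1, 0⟩⟩, ⟨⟨0, 0, 0⟩, ⟨0, 1, 0⟩⟩, ⟨⟨0, 0, 0⟩, ⟨0, 1, 0⟩⟩, ⟨⟨0, 0, 0⟩, ⟨1, 1, 0⟩⟩;
    ⟨⟨0, 1, 0⟩, ⟨0, 1, 0⟩⟩, ⟨⟨0, 1, 0⟩, ⟨0, 1, 0⟩⟩, ⟨⟨1, 1, 0⟩, ⟨1, 1, 0⟩⟩, ⟨⟨0, 1, 0⟩, ⟨0, 1, 0⟩⟩]
  mB := !![⟨⟨0, 0, 0⟩, ⟨0, 0, 0⟩⟩, ⟨⟨1, 0, 0⟩, ⟨0, 0, 0⟩⟩, ⟨⟨0, 0, 0⟩, ⟨0, 0, 0⟩⟩, ⟨⟨0, 0, 0⟩, ⟨0, 0, 0⟩⟩;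
    ⟨⟨1, 0, 0⟩, ⟨0, 0, 0⟩⟩, ⟨⟨0, 0, 0⟩, ⟨0, 0, 0⟩⟩, ⟨⟨0, 0, 0⟩, ⟨0, 0, 0⟩⟩, ⟨⟨0, 0, 0⟩, ⟨0, 0, 0⟩⟩;
    ⟨⟨0, 0, 0⟩, ⟨0, 0, 0⟩⟩, ⟨⟨0, 0, 0⟩, ⟨0, 0, 0⟩⟩, ⟨⟨1, 0, 0⟩, ⟨0, 0, 0⟩⟩, ⟨⟨0, 0, 0⟩, ⟨0, 0, 0⟩⟩;
    ⟨⟨0, 0, 0⟩, ⟨0, 0, 0⟩⟩, ⟨⟨0, 0, 0⟩, ⟨0, 0, 0⟩⟩, ⟨⟨0, 0, 0⟩, ⟨0, 0, 0⟩⟩, ⟨⟨1, 0, 0⟩, ⟨0, 0, 0⟩⟩]
  h2 := by decide +kernel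
  h4 := by decide +kernel
  h5 := by decide +kernel
  h8 := by decide +kernel
  h13 := by decide +kernel
  h16 := by decide +kernel
  h32 := by decide +kernel
  h64 := by decide +kernel
  h65 := by decide +kernel
  n5 := by decide +kernel
  n13 := by decide +kernel

/-- The splitting of the index set of the symplectic group. -/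
def sumE (m : ℕ) : Fin (m + m) ≃ Fin m ⊕ Fin m := finSumFinEquiv.symm

/-- Matrices over the model transported to matrices over the field. -/
noncomputable def toField {n : ℕ} {κ : Type} [Fintype κ] [DecidableEq κ] {R : Type} [CommRing R] {F : Type*}
    [CommRing F] (f : R →+* F) (e : Fin n ≃ κ) : Matrix (Fin n) (Fin n) R →* Matrix κ κ F where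
  toFun A := (Matrix.reindex e e A).map f
  map_one' := by simp [Matrix.map_one]
  map_mul' A B := by
    rw [← Matrix.map_mul]
    congr 1
    simp [Matrix.submatrix_mul_equiv]

theorem toField_injective {n : ℕ} {κ : Type} [Fintype κ] [DecidableEq κ] {R : Type} [CommRing R] {F : Type*}
    [CommRing F] {f : R →+* F} (hf : Function.Injective f) (e : Fin n ≃ κ) :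
    Function.Injective (toField f e) := fun _ _ h =>
  (Matrix.reindex e e).injective (Matrix.map_injective hf h)

variable {F₈ F₆₄ : Type*} [Field F₈] [Fintype F₈] [Field F₆₄] [Fintype F₆₄]

omit [Fintype F₈] in
theorem mem_symp {m : ℕ} (f : Q8 →+* F₈) (M : Matrix (Fin (m + m)) (Fin (m + m)) Q8)
    (h : (Matrix.reindex (sumE m) (sumE m) M) * Matrix.J (Fin m) Q8 *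
      (Matrix.reindex (sumE m) (sumE m) M)ᵀ = Matrix.J (Fin m) Q8) :
    toField f (sumE m) M ∈ Matrix.symplecticGroup (Fin m) F₈ := by
  have hJ : (Matrix.J (Fin m) Q8).map f = Matrix.J (Fin m) F₈ := by
    rw [Matrix.J, Matrix.J, Matrix.fromBlocks_map, Matrix.map_zero _ (map_zero f), Matrix.map_one _ (map_zero f) (map_one f)]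
    congr 1
    ext i j
    simp only [Matrix.neg_apply, Matrix.map_apply, map_neg, Matrix.one_apply, apply_ite f, map_one, map_zero]
  rw [SymplecticGroup.mem_iff, ← hJ]
  show (Matrix.reindex (sumE m) (sumE m) M).map f * _ * ((Matrix.reindex (sumE m) (sumE m) M).map f)ᵀ = _
  rw [← Matrix.transpose_map, ← Matrix.map_mul, ← Matrix.map_mul, h]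

theorem symp_65 {m : ℕ} (W : Wit (m + m) Q8) (h8 : Fintype.card F₈ = 8)
    (hA : (Matrix.reindex (sumE m) (sumE m) W.m1) * Matrix.J (Fin m) Q8 *
      (Matrix.reindex (sumE m) (sumE m) W.m1)ᵀ = Matrix.J (Fin m) Q8)
    (hB : (Matrix.reindex (sumE m) (sumE m) W.mB) * Matrix.J (Fin m) Q8 *
      (Matrix.reindex (sumE m) (sumE m) W.mB)ᵀ = Matrix.J (Fin m) Q8) :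
    ∃ g : Cfsg.PSp m F₈, orderOf g = 65 := by
  obtain ⟨f⟩ := exists_hom_Q8 (F := F₈) (n := 3) (by rw [h8]; norm_num) (by rw [h8])
  exact exists_65 W (Matrix.symplecticGroup (Fin m) F₈).subtype Subtype.val_injective (toField f (sumE m))
    (toField_injective (injective_Q8 f) _) (a := ⟨_, mem_symp f _ hA⟩) (b := ⟨_, mem_symp f _ hB⟩) rfl rfl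

theorem psp2_65 (h8 : Fintype.card F₈ = 8) : ∃ g : Cfsg.PSp 2 F₈, orderOf g = 65 :=
  symp_65 (m := 2) fourWit h8 (by decide +kernel) (by decide +kernel)

theorem psp3_65 (h8 : Fintype.card F₈ = 8) : ∃ g : Cfsg.PSp 3 F₈, orderOf g = 65 :=
  symp_65 (m := 3) sixWit h8 (by decide +kernel) (by decide +kernel)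

theorem det_map_one {n : ℕ} {R : Type} [CommRing R] {F : Type*} [CommRing F] (f : R →+* F)
    {M : Matrix (Fin n) (Fin n) R} (h : M.det = 1) : (M.map f).det = 1 := by
  rw [← RingHom.mapMatrix_apply, ← RingHom.map_det, h, map_one]

theorem psl4_65 (h8 : Fintype.card F₈ = 8) :
    ∃ g : Matrix.ProjectiveSpecialLinearGroup (Fin 4) F₈, orderOf g = 65 := by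
  obtain ⟨f⟩ := exists_hom_Q8 (F := F₈) (n := 3) (by rw [h8]; norm_num) (by rw [h8])
  exact exists_65 fourWit (Cfsg.slToMat 4 F₈) (fun a b h => Subtype.ext h) (f.mapMatrix (m := Fin 4)).toMonoidHom
    (Matrix.map_injective (injective_Q8 f)) (a := ⟨_, det_map_one f (show fourWit.m1.det = 1 by decide +kernel)⟩)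
    (b := ⟨_, det_map_one f (show fourWit.mB.det = 1 by decide +kernel)⟩) rfl rfl

theorem psl2_65 (h64 : Fintype.card F₆₄ = 64) :
    ∃ g : Matrix.ProjectiveSpecialLinearGroup (Fin 2) F₆₄, orderOf g = 65 := by
  obtain ⟨f⟩ := exists_hom_Q64 (F := F₆₄) h64
  exact exists_65 twoWit (Cfsg.slToMat 2 F₆₄) (fun a b h => Subtype.ext h) (f.mapMatrix (m := Fin 2)).toMonoidHom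
    (Matrix.map_injective (injective_Q64 f)) (a := ⟨_, det_map_one f (show twoWit.m1.det = 1 by decide +kernel)⟩)
    (b := ⟨_, det_map_one f (show twoWit.mB.det = 1 by decide +kernel)⟩) rfl rfl

theorem herm_pres (f : Q64 →+* F₆₄) (h64 : Fintype.card F₆₄ = 64) {M : Matrix (Fin 4) (Fin 4) Q64}
    (hd : M.det = 1) (h : Mᵀ * M.map (fun x => x * x * (x * x) * (x * x * (x * x))) = 1) :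
    (⟨M.map f, det_map_one f hd⟩ : Matrix.SpecialLinearGroup (Fin 4) F₆₄) ∈ Cfsg.SU 4 F₆₄ 8 := by
  have h2 : (2 : F₆₄) = 0 := two_eq_zero (n := 6) (by rw [h64]; norm_num)
  have : CharP F₆₄ 2 := CharTwo.of_one_ne_zero_of_two_eq_zero one_ne_zero h2
  intro u v
  show ∑ i, (M.map f *ᵥ u) i * ((M.map f *ᵥ v) i) ^ 8 = ∑ i, u i * v i ^ 8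
  have hp : ∀ i, ((M.map f *ᵥ v) i) ^ 8 = ((M.map fun x => x * x * (x * x) * (x * x * (x * x))).map f *ᵥ fun j => v j ^ 8) i := by
    intro i
    simp only [Matrix.mulVec, dotProduct, Matrix.map_apply]
    have hs := map_sum (iterateFrobenius F₆₄ 2 3) (fun j => f (M i j) * v j) Finset.univ
    simp only [iterateFrobenius_def] at hs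
    rw [show (2 : ℕ) ^ 3 = 8 from rfl] at hs
    rw [hs]
    refine Finset.sum_congr rfl fun j _ => ?_
    rw [mul_pow, map_mul, map_mul, map_mul]
    ring
  simp only [hp]
  show dotProduct (M.map f *ᵥ u) _ = dotProduct u fun j => v j ^ 8
  rw [Matrix.dotProduct_mulVec, ← Matrix.mulVec_transpose, Matrix.mulVec_mulVec, ← Matrix.transpose_map]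
  have ht : ((M.map fun x => x * x * (x * x) * (x * x * (x * x)))ᵀ * M).map f = 1 := by
    rw [show (M.map fun x => x * x * (x * x) * (x * x * (x * x)))ᵀ * M =
      (Mᵀ * M.map fun x => x * x * (x * x) * (x * x * (x * x)))ᵀ by rw [Matrix.transpose_mul, Matrix.transpose_transpose],
      h, Matrix.transpose_one, Matrix.map_one _ (map_zero f) (map_one f)]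
  rw [← Matrix.map_mul, ht, Matrix.one_mulVec]

theorem psu4_65 (h64 : Fintype.card F₆₄ = 64) : ∃ g : Cfsg.PSU 4 F₆₄ 8, orderOf g = 65 := by
  obtain ⟨f⟩ := exists_hom_Q64 (F := F₆₄) h64
  exact exists_65 hermWit ((Cfsg.slToMat 4 F₆₄).comp (Cfsg.SU 4 F₆₄ 8).subtype)
    (fun a b h => Subtype.ext (Subtype.ext h)) (f.mapMatrix (m := Fin 4)).toMonoidHom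
    (Matrix.map_injective (injective_Q64 f))
    (a := ⟨_, herm_pres f h64 (M := hermWit.m1) (by decide +kernel) (by decide +kernel)⟩)
    (b := ⟨_, herm_pres f h64 (M := hermWit.mB) (by decide +kernel) (by decide +kernel)⟩) rfl rfl

end CfsgLib.E7Sixtyfive
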