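/-
No element of order 65 in the Chevalley group of type E7 over two elements.
-/
import Cfsg.Agent.Lib.E7Sixtyfive.Cert
import Cfsg.Agent.Lib.Chev.OrderE7

set_option autoImplicit false
set_option maxRecDepth 100000

namespace CfsgLib.E7Sixtyfive

open Cfsg.Lie Matrix

theorem card_E7_two : Nat.card (Cfsg.Lie.chevE7.group (ZMod 2)) =
    2 ^ 63 * (([2, 6, 8, 10, 12, 14, 18] : List ℕ).map fun e => 2 ^ e - 1).prod := by
  have hH := CfsgLib.Chev.cardHE7 CfsgLib.Chev.chevE7 (ZMod 2)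
  have h := CfsgLib.Chev.chevE7.order_formula (F := ZMod 2) (degs := [2, 6, 8, 10, 12, 14, 18]) rfl hH
    (CfsgLib.Chev.sumWE7 _)
  rw [Nat.card_zmod] at h
  rw [show (∏ k : Fin 7, Nat.gcd (2 - 1) ([1, 1, 1, 1, 1, 1, 2].getD k.val 0)) = 1 from by decide +kernel,
    one_mul] at h
  rw [h]
  rfl

theorem thirteen_part : ¬ 13 ^ 2 ∣ 2 ^ 63 * (([2, 6, 8, 10, 12, 14, 18] : List ℕ).map fun e => 2 ^ e - 1).prod := by
  decide +kernel

/-- A subgroup of prime order of a group whose order is not divisible by the square is a Sylow subgroup. -/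
theorem exists_conj_zpowers {G : Type*} [Group G] [Finite G] {p : ℕ} [Fact p.Prime] (hp : ¬ p ^ 2 ∣ Nat.card G)
    {a b : G} (ha : orderOf a = p) (hb : orderOf b = p) :
    ∃ g : G, g * a * g⁻¹ ∈ Subgroup.zpowers b ∧ Subgroup.zpowers (g * a * g⁻¹) = Subgroup.zpowers b := by
  have hpp : p.Prime := Fact.out
  have hdvd : p ∣ Nat.card G := ha ▸ orderOf_dvd_natCard a
  obtain ⟨m, hm⟩ := hdvd
  have hm' : ¬ p ∣ m := fun ⟨k, hk⟩ => hp ⟨k, by rw [hm, hk, sq, mul_assoc]⟩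
  have hfac : (Nat.card G).factorization p = 1 := by
    have hm0 : m ≠ 0 := fun e => hm' (e ▸ dvd_zero p)
    rw [hm, Nat.factorization_mul hpp.ne_zero hm0, Finsupp.add_apply, hpp.factorization_self,
      Nat.factorization_eq_zero_of_not_dvd hm', add_zero]
  let P : Sylow p G := Sylow.ofCard (Subgroup.zpowers a) (by rw [Nat.card_zpowers, ha, hfac, pow_one])
  let Q : Sylow p G := Sylow.ofCard (Subgroup.zpowers b) (by rw [Nat.card_zpowers, hb, hfac, pow_one])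
  obtain ⟨g, hg⟩ := MulAction.exists_smul_eq G P Q
  refine ⟨g, ?_⟩
  have h1 : g * a * g⁻¹ ∈ Subgroup.zpowers b := by
    have h2 : g * a * g⁻¹ ∈ ((g • P : Sylow p G) : Subgroup G) := by
      rw [Sylow.coe_subgroup_smul, Subgroup.mem_pointwise_smul_iff_inv_smul_mem]
      show (MulAut.conj g)⁻¹ • (g * a * g⁻¹) ∈ Subgroup.zpowers a
      simp [MulAut.smul_def, mul_assoc]
    rw [hg] at h2
    exact h2
  refine ⟨h1, ?_⟩
  refine Subgroup.eq_of_le_of_card_ge ((Subgroup.zpowers_le).2 h1) (le_of_eq ?_)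
  rw [Nat.card_zpowers, Nat.card_zpowers, hb, ← MulAut.conj_apply, MulEquiv.orderOf_eq, ha]

theorem no_65_gen {M : Type*} [Monoid M] (G : Subgroup Mˣ) [Finite G] (h13 : ¬ 13 ^ 2 ∣ Nat.card G) (t : Mˣ)
    (ht : t ∈ G) (t13 : (t : M) ^ 13 = 1) (tne : (t : M) ≠ 1)
    (five : ∀ y : G, ((y : Mˣ) : M) * (t : M) = (t : M) * ((y : Mˣ) : M) → ((y : Mˣ) : M) ^ 5 = 1 →
      ((y : Mˣ) : M) = 1)
    (h : G) : orderOf h ≠ 65 := by
  intro ho
  have : Fact (Nat.Prime 13) := ⟨by norm_num⟩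
  have ht13 : orderOf (⟨t, ht⟩ : G) = 13 := by
    refine orderOf_eq_prime (Subtype.ext (Units.ext ?_)) ?_
    · show ((t ^ 13 : Mˣ) : M) = 1
      rw [Units.val_pow_eq_pow_val, t13]
    · intro e
      exact tne (congrArg Units.val (congrArg Subtype.val e))
  have ha : orderOf (h ^ 5) = 13 := by rw [orderOf_pow, ho]; rfl
  obtain ⟨g, _, hg⟩ := exists_conj_zpowers (p := 13) h13 ha ht13
  have hy5 : (g * h ^ 13 * g⁻¹) ^ 5 = 1 := by
    rw [conj_pow, ← pow_mul, show 13 * 5 = orderOf h by rw [ho], pow_orderOf_eq_one, mul_one, mul_inv_cancel]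
  have hc : Commute (g * h ^ 13 * g⁻¹) (⟨t, ht⟩ : G) := by
    have hm : (⟨t, ht⟩ : G) ∈ Subgroup.zpowers (g * h ^ 5 * g⁻¹) := by
      rw [hg]; exact Subgroup.mem_zpowers _
    obtain ⟨k, hk⟩ := Subgroup.mem_zpowers_iff.1 hm
    rw [← hk]
    refine Commute.zpow_right ?_ k
    rw [commute_iff_eq]
    simp only [mul_assoc, inv_mul_cancel_left]
    rw [← mul_assoc (h ^ 13), ← mul_assoc (h ^ 5) (h ^ 13), ← pow_add, ← pow_add, Nat.add_comm]
  have e1 : ((g * h ^ 13 * g⁻¹ : G) : Mˣ) = 1 := by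
    refine Units.ext (five _ ?_ ?_)
    · exact congrArg (fun u : G => ((u : Mˣ) : M)) hc.eq
    · rw [← Units.val_pow_eq_pow_val, ← SubmonoidClass.coe_pow, hy5]
      rfl
  have e2 : g * h ^ 13 * g⁻¹ = 1 := Subtype.ext e1
  rw [conj_eq_one_iff] at e2
  have := Nat.le_of_dvd (by norm_num) (orderOf_dvd_of_pow_eq_one e2)
  omega

theorem card_not_dvd : ¬ 13 ^ 2 ∣ Nat.card (Cfsg.Lie.chevE7.group (ZMod 2)) := by
  rw [card_E7_two]; exact thirteen_part

/-- The group has no element of order 65. -/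
theorem no_sixtyfive (h : Cfsg.Lie.chevE7.group (ZMod 2)) : orderOf h ≠ 65 := by
  obtain ⟨t, ht, et⟩ := inG_T
  have eT : (t : Matrix Ix Ix (ZMod 2)) = T := et
  refine no_65_gen (M := Matrix Ix Ix (ZMod 2)) (Cfsg.Lie.chevE7.group (ZMod 2)) card_not_dvd t ht ?_ ?_ ?_ h
  · rw [eT]; exact T_pow_thirteen
  · rw [eT]; exact T_ne_one
  · intro y hc h5
    rw [eT] at hc
    exact five_eq_one ⟨hc, group_presB y.2, h5⟩

/-- No subgroup is isomorphic to a group with an element of order 65. -/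
theorem isEmpty_of_65 (H : Subgroup ↥(Cfsg.Lie.chevE7.group (ZMod 2))) {Q : Type*} [Group Q]
    (hQ : ∃ g : Q, orderOf g = 65) : IsEmpty (↥H ≃* Q) := by
  refine ⟨fun e => ?_⟩
  obtain ⟨g, hg⟩ := hQ
  refine no_sixtyfive (e.symm g : ↥(Cfsg.Lie.chevE7.group (ZMod 2))) ?_
  rw [Subgroup.orderOf_coe, MulEquiv.orderOf_eq, hg]

end CfsgLib.E7Sixtyfive
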